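import Cfsg.Agent.Lib.C4.Defs

/-! S1914 (project C4): the action of `t` on `⟨ρ⟩` and change of the generator `ρ`. -/

set_option autoImplicit false

namespace H44.C4
open Subgroup

variable {X : Type*} [Group X]

/-- Membership in the four-group `U = {1, u, w, w u}`. -/
def InU (u w v : X) : Prop := v = 1 ∨ v = u ∨ v = w ∨ v = w * u

namespace NF
variable {S : Subgroup X} {t u w c ρ : X} {m : ℕ}

theorem U_mul (n : NF S t u w c ρ m) {a b : X} (ha : InU u w a) (hb : InU u w b) : InU u w (a * b) := by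
  have h1 := n.u2
  have h2 := n.w2
  have h3 : u * w = w * u := (n.uc w n.wS).symm
  have h4 : ∀ x, u * (u * x) = x := fun x => by rw [← mul_assoc, h1, one_mul]
  have h5 : ∀ x, w * (w * x) = x := fun x => by rw [← mul_assoc, h2, one_mul]
  have h6 : ∀ x, u * (w * x) = w * (u * x) := fun x => by rw [← mul_assoc, h3, mul_assoc]
  unfold InU
  rcases ha with e | e | e | e <;> rcases hb with f | f | f | f <;> rw [e, f] <;>
    simp only [mul_assoc, one_mul, mul_one, h1, h2, h3, h4, h5, h6, true_or, or_true]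

theorem U_sq (n : NF S t u w c ρ m) {a : X} (ha : InU u w a) : a * a = 1 := by
  rcases ha with e | e | e | e <;> rw [e]
  · exact one_mul 1
  · exact n.u2
  · exact n.w2
  · rw [mul_assoc, ← mul_assoc u, ← n.uc w n.wS, mul_assoc, n.u2, mul_one, n.w2]

theorem U_cj (n : NF S t u w c ρ m) {x a : X} (hx : x ∈ S) (ha : InU u w a) : InU u w (x * a * x⁻¹) := by
  rcases ha with e | e | e | e <;> rw [e]
  · left; group
  · right; left; rw [n.uc x hx]; group
  · rcases n.nw x hx with f | f <;> rw [f]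
    exacts [.inr (.inr (.inl rfl)), .inr (.inr (.inr rfl))]
  · rw [n.cj_wu hx]
    rcases n.nw x hx with f | f <;> rw [f]
    · exact .inr (.inr (.inr rfl))
    · rw [mul_assoc, n.u2, mul_one]; exact .inr (.inr (.inl rfl))

theorem U_S (n : NF S t u w c ρ m) {a : X} (ha : InU u w a) : a ∈ S := by
  rcases ha with e | e | e | e <;> rw [e]
  exacts [one_mem _, n.uS, n.wS, mul_mem n.wS n.uS]

/-- An element of `S` commuting with `w` commutes with `U`. -/
theorem U_comm (n : NF S t u w c ρ m) {x a : X} (hx : x ∈ S) (h : x * w = w * x) (ha : InU u w a) :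
    x * a = a * x := by
  rcases ha with e | e | e | e <;> rw [e]
  · rw [mul_one, one_mul]
  · exact n.uc x hx
  · exact h
  · rw [← mul_assoc, h, mul_assoc, n.uc x hx, mul_assoc]

theorem cU' (n : NF S t u w c ρ m) : ∃ v, InU u w v ∧ c = ρ ^ 2 ^ (m - 2) * v := by
  rcases n.cU with e | e | e | e
  exacts [⟨1, .inl rfl, by rw [mul_one]; exact e⟩, ⟨u, .inr (.inl rfl), e⟩, ⟨w, .inr (.inr (.inl rfl)), e⟩,
    ⟨w * u, .inr (.inr (.inr rfl)), by rw [← mul_assoc]; exact e⟩]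

/-- The involutions of `C = ⟨ρ⟩ ∪ ⟨ρ⟩ w` lie in `U`. -/
theorem invC (n : NF S t u w c ρ m) {x : X} {i : ℤ} (hx : x = ρ ^ i ∨ x = ρ ^ i * w) (h : x * x = 1) :
    InU u w x := by
  rcases hx with e | e
  · rcases n.inv_zp (e ▸ zpow_mem (mem_zpowers ρ) i) h with f | f
    exacts [.inl f, .inr (.inl f)]
  · rcases n.inv_rw (e ▸ h) with f | f <;> rw [← e] at f
    exacts [.inr (.inr (.inl f)), .inr (.inr (.inr f))]

theorem zpow_mulU (n : NF S t u w c ρ m) {x v : X} (hx : x ∈ S) (hv : InU u w v) (k : ℤ) :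
    ∃ v', InU u w v' ∧ (x * v) ^ k = x ^ k * v' := by
  induction k using Int.induction_on with
  | zero => exact ⟨1, .inl rfl, by simp⟩
  | succ k ih =>
    obtain ⟨v', h1, h2⟩ := ih
    refine ⟨x⁻¹ * v' * x⁻¹⁻¹ * v, n.U_mul (n.U_cj (inv_mem hx) h1) hv, ?_⟩
    rw [zpow_add_one, h2, zpow_add_one]; group
  | pred k ih =>
    obtain ⟨v', h1, h2⟩ := ih
    refine ⟨x * (v' * v) * x⁻¹, n.U_cj hx (n.U_mul h1 hv), ?_⟩
    rw [zpow_sub_one, h2, zpow_sub_one, mul_inv_rev, inv_eq_of_mul_eq_one_right (n.U_sq hv)]; group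

theorem ru' (n : NF S t u w c ρ m) : ρ ^ ((2 : ℤ) ^ (m - 1)) = u := by rw [← n.ru]; norm_cast

/-- For `m ≥ 3`, `t` inverts the element `ρ ^ 2 ^ (m - 3)` of order 8 modulo `U`. -/
theorem inv1 (n : NF S t u w c ρ m) (hm : 3 ≤ m) :
    ∃ v, InU u w v ∧ t * ρ ^ 2 ^ (m - 3) * t⁻¹ = (ρ ^ 2 ^ (m - 3))⁻¹ * v := by
  set r := ρ ^ 2 ^ (m - 3) with hr
  have rS : r ∈ S := pow_mem n.rS _
  have r4 : r * r * (r * r) = u := by
    rw [hr, ← pow_add, ← two_mul, ← pow_succ', show m - 3 + 1 = m - 2 by omega, n.y2]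
  have r4' : r ^ (4 : ℤ) = u := by
    rw [← r4, show (4 : ℤ) = 2 + 2 by norm_num, zpow_add, zpow_two]
  obtain ⟨j, v, hv, e⟩ : ∃ (j : ℤ) (v : X), InU u w v ∧ t * r * t⁻¹ = r ^ j * v := by
    obtain ⟨j, e⟩ := n.norm_t
    have e0 : t * r * t⁻¹ = (t * ρ * t⁻¹) ^ ((2 ^ (m - 3) : ℕ) : ℤ) := by
      rw [zpow_natCast, conj_pow]
    have e1 : (ρ ^ j) ^ ((2 ^ (m - 3) : ℕ) : ℤ) = r ^ j := by
      rw [hr, ← zpow_natCast, ← zpow_mul, ← zpow_mul, mul_comm]
    rcases e with e | e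
    · exact ⟨j, 1, .inl rfl, by rw [e0, e, e1, mul_one]⟩
    · obtain ⟨v, hv, h⟩ := n.zpow_mulU (zpow_mem n.rS j) (.inr (.inr (.inl rfl))) ((2 ^ (m - 3) : ℕ) : ℤ)
      exact ⟨j, v, hv, by rw [e0, e, h, e1]⟩
  have hu : ∀ k : ℤ, InU u w (u ^ k) := fun k => by
    rcases n.inv_zp (zpow_mem n.uz k) (by rw [← (Commute.refl u).mul_zpow, n.u2, one_zpow]) with f | f
    exacts [.inl f, .inr (.inl f)]
  have tu : t * u * t⁻¹ = u := by rw [n.uc t n.tS]; group
  obtain ⟨k, hk⟩ : ∃ k : ℤ, j = 2 * k ∨ j = 1 + 4 * k ∨ j = -1 + 4 * k := by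
    rcases Int.emod_two_eq_zero_or_one j with h | h
    · exact ⟨j / 2, .inl (by omega)⟩
    · by_cases h4 : j % 4 = 1
      · exact ⟨j / 4, .inr (.inl (by omega))⟩
      · exact ⟨(j + 1) / 4, .inr (.inr (by omega))⟩
  rcases hk with rfl | rfl | rfl
  · exfalso
    have hc : Commute (r ^ (2 * k)) v := by
      refine n.U_comm (zpow_mem rS _) ?_ hv
      rw [two_mul, zpow_add]; exact n.sq_w (zpow_mem rS k)
    have h1 : (t * r * t⁻¹) ^ (4 : ℤ) = u := by rw [conj_zpow, r4', tu]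
    rw [e, hc.mul_zpow, ← zpow_mul, show 2 * k * 4 = 4 * (2 * k) by ring, zpow_mul, r4', zpow_mul, zpow_two, n.u2,
      one_zpow, one_mul, show (4 : ℤ) = 2 * 2 by norm_num, zpow_mul, zpow_two v, n.U_sq hv, one_zpow] at h1
    exact n.u1 h1.symm
  · exfalso
    rw [zpow_add, zpow_one, zpow_mul, r4', mul_assoc r] at e
    have hv' := n.U_mul (hu k) hv
    generalize u ^ k * v = v' at e hv'
    have h1 : v' * (t * v' * t⁻¹) = 1 := by
      have h2 : t * (t * r * t⁻¹) * t⁻¹ = r := by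
        rw [n.tinv, show t * (t * r * t) * t = (t * t) * r * (t * t) by group, n.t2]; group
      have h3 : t * (r * v') * t⁻¹ = r * (v' * (t * v' * t⁻¹)) := by
        rw [← mul_assoc r v' (t * v' * t⁻¹)]
        conv_rhs => rw [← e]
        group
      rw [e, h3] at h2
      exact mul_eq_left.1 h2
    rcases hv' with f | f | f | f <;> rw [f] at h1 e
    · have := n.exp4 rS (by rw [mul_one, mul_inv_eq_iff_eq_mul] at e; exact e.symm)
      exact n.u1 (r4.symm.trans this)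
    · have h2 : t * (r * w) * t⁻¹ = r * w := by
        rw [show t * (r * w) * t⁻¹ = t * r * t⁻¹ * (t * w * t⁻¹) by group, e, n.tw, n.uc w n.wS, mul_assoc,
          ← mul_assoc u, n.u2, one_mul]
      have h3 := n.exp4 (mul_mem rS n.wS) (by rw [mul_inv_eq_iff_eq_mul] at h2; exact h2.symm)
      have h4 : r * w * (r * w) = r * r * (r⁻¹ * w * r⁻¹⁻¹ * w) := by group
      rcases n.nw _ (inv_mem rS) with g | g <;> rw [g] at h4
      · rw [h4, n.w2, mul_one, r4] at h3; exact n.u1 h3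
      · rw [n.uc w n.wS, mul_assoc u, n.w2, mul_one] at h4
        rw [h4, mul_assoc (r * r), ← mul_assoc u, ← n.uc _ (mul_mem rS rS), mul_assoc (r * r), n.u2, mul_one,
          r4] at h3
        exact n.u1 h3
    · rw [n.tw, ← mul_assoc, n.w2, one_mul] at h1; exact n.u1 h1
    · rw [n.cj_wu n.tS, n.tw, mul_assoc w u u, n.u2, mul_one, n.uc w n.wS, mul_assoc, n.w2, mul_one] at h1
      exact n.u1 h1
  · refine ⟨u ^ k * v, n.U_mul (hu k) hv, ?_⟩
    rw [e, zpow_add, zpow_neg_one, zpow_mul, r4', mul_assoc]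

/-- For `m ≥ 3`, `t` inverts `y' = ρ ^ 2 ^ (m - 2)`, except in the wreathed group of order 32. -/
theorem t_y (n : NF S t u w c ρ m) (hm : 3 ≤ m) :
    t * ρ ^ 2 ^ (m - 2) * t⁻¹ = (ρ ^ 2 ^ (m - 2))⁻¹ ∨
      (m = 3 ∧ ρ * w ≠ w * ρ ∧ (t * ρ * t⁻¹ = ρ⁻¹ * w ∨ t * ρ * t⁻¹ = ρ⁻¹ * (w * u))) := by
  obtain ⟨v, hv, e⟩ := n.inv1 hm
  have rS : ρ ^ 2 ^ (m - 3) ∈ S := pow_mem n.rS _
  have e0 : ρ ^ 2 ^ (m - 2) = ρ ^ 2 ^ (m - 3) * ρ ^ 2 ^ (m - 3) := by
    rw [← pow_add, ← two_mul, ← pow_succ', show m - 3 + 1 = m - 2 by omega]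
  by_cases hc : ρ ^ 2 ^ (m - 3) * v = v * ρ ^ 2 ^ (m - 3)
  · left
    generalize ρ ^ 2 ^ (m - 3) = r at e e0 hc
    have hc' : v * r⁻¹ = r⁻¹ * v := (Commute.inv_left hc).eq.symm
    rw [e0, show t * (r * r) * t⁻¹ = t * r * t⁻¹ * (t * r * t⁻¹) by group, e, mul_assoc, ← mul_assoc v, hc',
      mul_assoc, n.U_sq hv]
    group
  · right
    have h1 : ρ ^ 2 ^ (m - 3) * w ≠ w * ρ ^ 2 ^ (m - 3) := fun h => hc (n.U_comm rS h hv)
    have h3 : m = 3 := by
      by_contra h3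
      have h2 := n.sq_w (pow_mem n.rS (2 ^ (m - 4)))
      rw [← pow_add, ← two_mul, ← pow_succ', show m - 4 + 1 = m - 3 by omega] at h2
      exact h1 h2
    subst h3
    simp only [Nat.sub_self, pow_zero, pow_one] at h1 e hc
    refine ⟨rfl, h1, ?_⟩
    rcases hv with f | f | f | f <;> rw [f] at e hc
    · exact absurd (by rw [mul_one, one_mul]) hc
    · exact absurd (n.uc ρ n.rS) hc
    exacts [.inl e, .inr e]

theorem absorb (n : NF S t u w c ρ m) {r v : X} (hr : r ^ 2 ^ (m - 1) = u) (hv : InU u w v) (i : ℤ) :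
    ∃ k : ℤ, r ^ i * v = r ^ k ∨ r ^ i * v = r ^ k * w := by
  have e : r ^ ((2 : ℤ) ^ (m - 1)) = u := by rw [← hr]; norm_cast
  rcases hv with f | f | f | f <;> rw [f]
  · exact ⟨i, .inl (mul_one _)⟩
  · exact ⟨i + 2 ^ (m - 1), .inl (by rw [zpow_add, e])⟩
  · exact ⟨i, .inr rfl⟩
  · exact ⟨i + 2 ^ (m - 1), .inr (by rw [zpow_add, e, mul_assoc, n.uc w n.wS])⟩

theorem cU_of (n : NF S t u w c ρ m) {y v : X} (hv : InU u w v) (e : ρ ^ 2 ^ (m - 2) = y * v) :
    c = y ∨ c = y * u ∨ c = y * w ∨ c = y * w * u := by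
  obtain ⟨v', hv', e'⟩ := n.cU'
  rw [e, mul_assoc] at e'
  rcases n.U_mul hv hv' with f | f | f | f <;> rw [f] at e'
  exacts [.inl (by rw [e', mul_one]), .inr (.inl e'), .inr (.inr (.inl e')),
    .inr (.inr (.inr (by rw [e', mul_assoc])))]

/-- The generator `ρ` may be replaced by an odd power. -/
theorem regen1 (n : NF S t u w c ρ m) {i : ℤ} (hi : Odd i) : NF S t u w c (ρ ^ i) m := by
  obtain ⟨l, rfl⟩ := hi
  have hru : (ρ ^ (2 * l + 1)) ^ 2 ^ (m - 1) = u := by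
    rw [← zpow_natCast, ← zpow_mul, mul_comm, zpow_mul, zpow_natCast, n.ru, zpow_add, zpow_mul, zpow_two, n.u2,
      one_zpow, one_mul, zpow_one]
  have hm := n.m2
  have ho : orderOf (ρ ^ (2 * l + 1)) = 2 ^ m := by
    have : Fact (Nat.Prime 2) := ⟨Nat.prime_two⟩
    rw [show m = (m - 1) + 1 by omega]
    exact orderOf_eq_prime_pow (by rw [hru]; exact n.u1) (by rw [pow_succ, pow_mul, hru, pow_two, n.u2])
  have hz : ρ ∈ zpowers (ρ ^ (2 * l + 1)) := by
    have hc : IsCoprime (2 * l + 1) ((2 : ℤ) ^ m) := (IsCoprime.pow_right (⟨1, -l, by ring⟩))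
    obtain ⟨a, b, hab⟩ := hc
    refine mem_zpowers_iff.2 ⟨a, ?_⟩
    have h0 : ρ ^ (b * 2 ^ m) = 1 := n.zpow_eq_one.2 (Dvd.intro_left _ rfl)
    rw [← zpow_mul, mul_comm, ← mul_one (ρ ^ _), ← h0, ← zpow_add, hab, zpow_one]
  refine { n with rS := zpow_mem n.rS _, ord := ho, ru := hru, wr := fun h => n.wr ?_, cU := ?_, dec := ?_ }
  · exact zpowers_le.2 (zpow_mem (mem_zpowers ρ) _) h
  · have h1 : (ρ ^ (2 * l + 1)) ^ 2 ^ (m - 2) = u ^ l * ρ ^ 2 ^ (m - 2) := by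
      rw [← zpow_natCast, ← zpow_mul, mul_comm, zpow_mul, zpow_natCast, zpow_add, zpow_mul, zpow_two, n.y2,
        zpow_one]
    have h2 : u ^ l * u ^ l = 1 := by rw [← (Commute.refl u).mul_zpow, n.u2, one_zpow]
    refine n.cU_of (v := u ^ l) ?_ ?_
    · rcases n.inv_zp (zpow_mem n.uz l) h2 with f | f
      exacts [.inl f, .inr (.inl f)]
    · rw [h1, ← (Commute.zpow_right (n.uc _ (pow_mem n.rS _)) l).eq, mul_assoc, h2, mul_one]
  · intro x hx
    obtain ⟨a, ha⟩ := mem_zpowers_iff.1 hz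
    obtain ⟨k, hk⟩ := n.dec x hx
    refine ⟨a * k, ?_⟩
    rwa [zpow_mul, ha]

/-- The generator `ρ` may be replaced by `ρ w`. -/
theorem regen2 (n : NF S t u w c ρ m) : NF S t u w c (ρ * w) m := by
  have hm := n.m2
  have hw : InU u w w := .inr (.inr (.inl rfl))
  have hru : (ρ * w) ^ 2 ^ (m - 1) = u := by
    have h1 := n.sq_rw 1
    rw [zpow_one, mul_one, zpow_two, ← pow_two, ← pow_two] at h1
    rw [show m - 1 = (m - 2) + 1 by omega, pow_succ', pow_mul]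
    rcases h1 with e | ⟨e, -, h3⟩ <;> rw [e]
    · rw [← pow_mul, ← pow_succ', show m - 2 + 1 = m - 1 by omega, n.ru]
    · rw [(show Commute (ρ ^ 2) u from n.uc _ (pow_mem n.rS 2)).mul_pow, ← pow_mul, ← pow_succ',
        show m - 2 + 1 = m - 1 by omega, n.ru, show m - 2 = (m - 3) + 1 by omega, pow_succ', pow_mul, pow_two,
        n.u2, one_pow, mul_one]
  have ho : orderOf (ρ * w) = 2 ^ m := by
    have : Fact (Nat.Prime 2) := ⟨Nat.prime_two⟩
    rw [show m = (m - 1) + 1 by omega]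
    exact orderOf_eq_prime_pow (by rw [hru]; exact n.u1) (by rw [pow_succ, pow_mul, hru, pow_two, n.u2])
  have key : ∀ k : ℤ, ∃ v, InU u w v ∧ ρ ^ k = (ρ * w) ^ k * v := fun k => by
    obtain ⟨v, hv, e⟩ := n.zpow_mulU n.rS hw k
    exact ⟨v, hv, by rw [e, mul_assoc, n.U_sq hv, mul_one]⟩
  refine { n with rS := mul_mem n.rS n.wS, ord := ho, ru := hru, wr := fun h => ?_, cU := ?_, dec := ?_ }
  · obtain ⟨k, hk⟩ := mem_zpowers_iff.1 h
    have h1 : (ρ * w) ^ (2 * k) = 1 := by rw [two_mul, zpow_add, hk, n.w2]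
    rw [← orderOf_dvd_iff_zpow_eq_one, ho, show m = (m - 1) + 1 by omega, pow_succ'] at h1
    push_cast at h1
    obtain ⟨l, rfl⟩ := Int.dvd_of_mul_dvd_mul_left (by norm_num) h1
    have e : (ρ * w) ^ ((2 : ℤ) ^ (m - 1)) = u := by rw [← hru]; norm_cast
    rw [zpow_mul, e] at hk
    exact n.wr (hk ▸ zpow_mem n.uz l)
  · obtain ⟨v, hv, e⟩ := key ((2 ^ (m - 2) : ℕ) : ℤ)
    rw [zpow_natCast, zpow_natCast] at e
    exact n.cU_of hv e
  · intro x hx
    obtain ⟨k, hk⟩ := n.dec x hx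
    obtain ⟨v, hv, e⟩ := key k
    obtain ⟨a, ha⟩ := n.absorb hru hv k
    obtain ⟨b, hb⟩ := n.absorb hru (n.U_mul hv hw) k
    rw [← e] at ha
    rw [← mul_assoc, ← e] at hb
    rcases hk with f | f | f | f <;> rw [f]
    · exact ⟨a, ha.elim .inl fun h => .inr (.inl h)⟩
    · exact ⟨b, hb.elim .inl fun h => .inr (.inl h)⟩
    · exact ⟨a, .inr (.inr (ha.imp (fun h => by rw [← h]) fun h => by rw [← h]))⟩
    · exact ⟨b, .inr (.inr (hb.imp (fun h => by rw [← h]) fun h => by rw [← h]))⟩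

end NF

end H44.C4
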