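import Cfsg.Agent.Lib.C4.H

/-! S1914 (project C4), package CA: the case `[ρ, w] = 1`. -/

set_option autoImplicit false
set_option linter.unusedSectionVars false

namespace H44.C4.Sit
open Subgroup

variable {X : Type*} [Group X] [Finite X] {A S : Subgroup X} {t u w c ρ : X} {m : ℕ}

section

variable (h : Sit A S t) (n : NF S t u w c ρ m) (hα : ρ * w = w * ρ) {a b x g : X}
include n hα

theorem a_ab (ha : a ∈ n.CC) (hb : b ∈ n.CC) : Commute a b := by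
  have f : ∀ {a}, Commute a ρ → Commute a w → Commute a b := fun h1 h2 => by
    obtain ⟨i, rfl | rfl⟩ := n.mem_CC.1 hb
    exacts [h1.zpow_right i, (h1.zpow_right i).mul_right h2]
  obtain ⟨i, rfl | rfl⟩ := n.mem_CC.1 ha
  exacts [(f (Commute.refl ρ) hα).zpow_left i,
    ((f (Commute.refl ρ) hα).zpow_left i).mul_left (f hα.symm (Commute.refl w))]

omit hα in
theorem a_cC : c ∈ n.CC := by
  obtain ⟨v, hv, e⟩ := n.cU'
  have := mul_mem (pow_mem n.ρC (2 ^ (m - 2))) (n.UC hv)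
  rwa [← e] at this

theorem a_c (hx : x ∈ S) : Commute c x := by
  by_cases e : x ∈ n.CC
  · exact a_ab n hα (a_cC n) e
  · obtain ⟨κ, h1, rfl⟩ := n.decC hx e
    exact (a_ab n hα (a_cC n) h1).mul_right n.ct

theorem a_sq (hb : b ∈ S) (h1 : b * b ≠ 1) (h2 : b * b * (b * b) = 1) : b * b = u := by
  by_cases e : b ∈ n.CC
  · exact (n.inv_zp (NF.Rr (n.sqR e)) h2).resolve_left h1
  obtain ⟨κ, h3, rfl⟩ := n.decC hb e
  have e1 : κ * t * w * (κ * t)⁻¹ = w * u := by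
    rw [show κ * t * w * (κ * t)⁻¹ = κ * (t * w * t⁻¹) * κ⁻¹ by group, n.tw]
    exact x_cm.1 (a_ab n hα h3 (mul_mem n.wC (n.rC n.uz)))
  have e2 : κ * t * (κ * t * (κ * t)) * (κ * t)⁻¹ = κ * t * (κ * t) := by group
  rcases n.invU (n.sqS hb) h2 with e3 | e3 | e3 | e3
  · exact absurd e3 h1
  · exact e3
  · rw [e3, e1] at e2; exact absurd e2 n.wu_ne
  · rw [e3, n.cj_wu hb, e1, mul_left_inj] at e2; exact absurd e2 n.wu_ne

include h

theorem a_iso (hx : x ∈ S) (e : g * x * g⁻¹ = u) : x = u := by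
  obtain ⟨k, e1, e2⟩ := h.extX n.uc e
  have := a_sq n hα (e2 c n.cS (a_c n hα hx)) (by rw [conj_mul, n.c2, Ne, conj_eq_one_iff]; exact n.u1)
    (by rw [conj_mul, n.c2, conj_mul, n.u2]; simp)
  rw [conj_mul, n.c2] at this
  exact mul_left_cancel (mul_right_cancel (e1.trans this.symm))

theorem a_one (hρ : ρ ∈ A) : False := by
  obtain ⟨s, sS, -, -, s1, g, -, e⟩ := h.su n hρ
  exact s1 (h.a_iso n hα sS e ▸ n.uz)

theorem a_two (hρ : ρ ∉ A) (hw : w ∈ A) (hm : m = 2) : False := by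
  subst hm
  have f : ∀ a ∈ n.CC, a ∈ A → InU u w a := fun a ha aA => by
    have r : ∀ i : ℤ, ρ ^ i ∈ A → InU u w (ρ ^ i) := fun i e => by
      obtain ⟨l, rfl⟩ := h.evA hρ e
      have := n.ru
      norm_num at this
      refine n.invU (zpow_mem n.ρC _) ?_
      rw [zpow_mul, zpow_two, ← sq ρ, this, ← (Commute.refl u).mul_zpow, n.u2, one_zpow]
    obtain ⟨i, rfl | rfl⟩ := n.mem_CC.1 ha
    exacts [r i aA, n.U_mul (r i ((mul_mem_cancel_right hw).1 aA)) (.inr (.inr (.inl rfl)))]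
  have cA : c ∉ A := fun e => by
    obtain ⟨v, hv, e1⟩ := n.cU'
    rw [e1, mul_mem_cancel_right (h.UA n hw hv)] at e
    exact hρ (by simpa using e)
  have c2 : c * t * (c * t) = u := by rw [mul_assoc, ← mul_assoc t, ← n.ct, mul_assoc, n.t2, mul_one, n.c2]
  have uM : u ∈ zpowers (c * t) := c2 ▸ mul_mem (mem_zpowers _) (mem_zpowers _)
  have f' : ∀ a, InU u w a → a ∈ zpowers (c * t) ∨ a * w⁻¹ ∈ zpowers (c * t) := fun a e => by
    rcases e with e | e | e | e <;> rw [e]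
    exacts [.inl (one_mem _), .inl uM, .inr (by simp), .inr (by rw [n.uc w n.wS]; simpa using uM)]
  obtain ⟨g, -, -, i, e⟩ := h.trA (M := zpowers (c * t)) (x0 := w) (fun a aS aA => by
    by_cases e : a ∈ n.CC
    · exact f' a (f a e aA)
    have := f' _ (f _ (n.outC (mul_mem n.cS n.tS) (n.ktC (a_cC n)) aS e)
      (mul_mem (h.mulA.2 (iff_of_false cA h.tA)) aA))
    rwa [mul_assoc (c * t), mul_mem_cancel_left (mem_zpowers _), mul_mem_cancel_left (mem_zpowers _)] at this)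
    n.wS hw fun g _ i _ => by rw [x_p2 n.w2]; simp
  beta_reduce at e
  have e1 : u ^ i = 1 := by rw [← c2, (Commute.refl _).mul_zpow, e, conj_mul, n.w2]; simp
  obtain ⟨l, rfl | rfl⟩ := Int.even_or_odd' i
  · rw [zpow_mul, zpow_two, c2] at e
    exact n.wu (h.a_iso n hα n.wS (n.cj_inv n.w2 n.w1 (e ▸ zpow_mem n.uz l)))
  · rw [zpow_add_one, zpow_mul, zpow_two, n.u2, one_zpow, one_mul] at e1
    exact n.u1 e1

theorem a_nc (hρ : ρ ∉ A) (hm : 3 ≤ m) (e : g * c * g⁻¹ * (g * c * g⁻¹) ∈ zpowers ρ)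
    (e' : g * c * g⁻¹ ∈ zpowers ρ) : False := by
  have ty := (n.t_y hm).resolve_right fun e => e.2.1 hα
  have xy : ρ * t * ρ ^ 2 ^ (m - 2) * (ρ * t)⁻¹ = (ρ ^ 2 ^ (m - 2))⁻¹ := by
    rw [show ρ * t * ρ ^ 2 ^ (m - 2) * (ρ * t)⁻¹ = ρ * (t * ρ ^ 2 ^ (m - 2) * t⁻¹) * ρ⁻¹ by group, ty]; group
  rw [conj_mul, n.c2] at e
  have e1 := n.ord4 e' (by rw [conj_mul, n.c2, n.cj_u e])
  have := h.oddI (K := centralizer {ρ ^ 2 ^ (m - 2)}) (g := g) (n := ρ * t) (fun s hs _ => x_mC.2 (by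
      have : Commute (g * c * g⁻¹) (g * s * g⁻¹) := x_cj (a_c n hα hs) g
      rcases e1 with e1 | e1 <;> rw [e1] at this
      exacts [this.symm, (Commute.inv_left_iff.1 this).symm])) (h.mulA.2 (iff_of_false hρ h.tA))
    (fun k hk => x_mC.2 (by
      have : Commute _ _ := x_cj (x_mC.1 hk) (ρ * t)
      rw [xy] at this
      exact Commute.inv_right_iff.1 this)) (x_mC.2 (n.yC (n.sqS (mul_mem n.rS n.tS))))
  exact n.y_ne ((x_cm.1 (x_mC.1 this)).symm.trans xy)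

theorem a_inv (hρ : ρ ∉ A) (hw : w ∈ A) (hm : 3 ≤ m) (cA : c ∈ A) (x2 : ρ * t * (ρ * t) = 1) : False := by
  have xr : ρ * t * ρ * (ρ * t)⁻¹ = ρ⁻¹ := by
    rw [eq_inv_of_mul_eq_one_left x2, inv_inv, mul_inv_rev, n.tinv, mul_assoc, mul_assoc, ← mul_assoc ρ⁻¹,
      inv_mul_cancel, one_mul, ← mul_assoc, eq_comm, ← mul_one ρ⁻¹, ← x2]
    group
  have xi : ∀ a ∈ zpowers ρ, ρ * t * a * (ρ * t)⁻¹ = a⁻¹ := by
    rintro _ ⟨i, rfl⟩
    beta_reduce
    rw [← conj_zpow, xr, inv_zpow]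
  have f : ∀ a ∈ n.CC, a ∈ A → a ∈ zpowers (ρ * ρ) ∨ a * w⁻¹ ∈ zpowers (ρ * ρ) := fun a ha aA => by
    obtain ⟨i, rfl | rfl⟩ := n.mem_CC.1 ha
    · obtain ⟨l, rfl⟩ := h.evA hρ aA
      exact .inl (NF.evR l)
    · obtain ⟨l, rfl⟩ := h.evA hρ ((mul_mem_cancel_right hw).1 aA)
      exact .inr (by simpa using NF.evR l)
  have xA : ρ * t ∈ A := h.mulA.2 (iff_of_false hρ h.tA)
  obtain ⟨g, -, -, e⟩ := h.trA (M := ext2 (zpowers (ρ * ρ)) (ρ * t)
    (fun a ha => by rw [xi a (NF.Rr ha)]; exact inv_mem ha) (x2 ▸ one_mem _)) (x0 := w) (fun a aS aA => by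
      by_cases e : a ∈ n.CC
      · exact (f a e aA).imp .inl .inl
      · have hx : ρ * t ∈ ext2 (zpowers (ρ * ρ)) (ρ * t)
          (fun a ha => by rw [xi a (NF.Rr ha)]; exact inv_mem ha) (x2 ▸ one_mem _) := .inr (by simp)
        have := f _ (n.outC (mul_mem n.rS n.tS) (n.ktC n.ρC) aS e) (mul_mem xA aA)
        exact this.imp (fun e => (mul_mem_cancel_left hx).1 (.inl e))
          fun e => (mul_mem_cancel_left hx).1 (.inl (by rwa [← mul_assoc]))) n.cS cA fun g _ i hg => .inl (by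
      rw [pow_succ', pow_mul, sq, n.c2] at hg ⊢
      rcases i with _ | i
      · rw [pow_zero, pow_one] at hg ⊢
        rw [h.a_iso n hα hg (g := g⁻¹) (by group)]
        exact n.uR
      · rw [x_p2 n.u2]; simp)
  rcases e with e | e
  · exact h.a_nc n hα hρ hm (mul_mem (NF.Rr e) (NF.Rr e)) (NF.Rr e)
  · have := xi _ (NF.Rr e)
    refine n.u1 (conj_eq_one_iff.1 (?_ : g * u * g⁻¹ = 1))
    rw [← n.c2, ← conj_mul]
    generalize g * c * g⁻¹ = d, ρ * t = x at *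
    calc _ = d * x⁻¹ * (x * (d * x⁻¹) * x⁻¹) * (x * x) := by group
      _ = _ := by rw [this, x2]; group

end

theorem caseA (h : Sit A S t) (n : NF S t u w c ρ m) (hα : ρ * w = w * ρ) : False := by
  have hα' : ρ * w * w = w * (ρ * w) := by rw [← mul_assoc, ← hα]
  by_cases hρ : ρ ∈ A
  · exact h.a_one n hα hρ
  by_cases hw : w ∈ A
  swap
  · exact h.a_one n.regen2 hα' (h.mulA.2 (iff_of_false hρ hw))
  rcases n.m2.eq_or_lt with hm | hm
  · exact h.a_two n hα hρ hw hm.symm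
  have cA : c ∈ A := by
    obtain ⟨v, hv, e⟩ := n.cU'
    rw [e, show m - 2 = m - 3 + 1 by omega, pow_succ, pow_mul, sq]
    exact mul_mem (h.sqA _) (h.UA n hw hv)
  have f : ∀ x ∈ S, x ∈ A → x ∉ n.CC → x * x = c ∨ x * x = c⁻¹ := fun x xS xA e => by
    have ni : ∀ x ∈ S, x ∈ A → x ∉ n.CC → x * x ≠ 1 := fun x xS xA e x2 => by
      obtain ⟨κ, h1, rfl⟩ := n.decC xS e
      have kA : κ ∉ A := fun e => h.tA ((mul_mem_cancel_left e).1 xA)
      obtain ⟨i, rfl | rfl⟩ := n.mem_CC.1 h1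
      · obtain ⟨l, rfl⟩ := h.odA kA
        exact h.a_inv (n.regen1 ⟨l, rfl⟩) (Commute.zpow_left hα _) kA hw hm cA x2
      · obtain ⟨l, rfl⟩ := h.odA fun e => kA (mul_mem e hw)
        exact h.a_inv (n.regen1 ⟨l, rfl⟩).regen2 (a_ab n hα h1 n.wC) kA hw hm cA x2
    have hs := n.sqS xS
    obtain ⟨i, e1⟩ := n.cent _ (n.CS hs) (by
      obtain ⟨κ, h1, rfl⟩ := n.decC xS e
      have := (a_ab n hα hs h1).inv_right.mul_right (c := κ * t) ((Commute.refl _).mul_left (Commute.refl _))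
      rwa [inv_mul_cancel_left] at this) (n.sq_w xS)
    beta_reduce at e1
    have c4 : c ^ (4 : ℤ) = 1 := by rw [show (4 : ℤ) = 2 * 2 from rfl, zpow_mul, zpow_two, zpow_two, n.c2, n.u2]
    obtain ⟨l, rfl | rfl | rfl | rfl⟩ : ∃ l, i = 4 * l ∨ i = 4 * l + 1 ∨ i = 4 * l + 2 ∨ i = 4 * l + -1 :=
      ⟨(i + 1) / 4, by omega⟩
    all_goals try rw [zpow_add] at e1
    all_goals rw [zpow_mul, c4, one_zpow] at e1
    · exact absurd e1.symm (ni x xS xA e)
    · exact .inl (by simpa using e1.symm)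
    · refine absurd ?_ (ni _ (mul_mem n.cS xS) (mul_mem cA xA) (by rwa [mul_mem_cancel_left (a_cC n)]))
      rw [mul_assoc, ← mul_assoc x, ← (a_c n hα xS).eq, mul_assoc, ← e1, one_mul, zpow_two, ← mul_assoc,
        n.c2, n.u2]
    · exact .inr (by simpa using e1.symm)
  have xS := mul_mem n.rS n.tS
  have xA : ρ * t ∈ A := h.mulA.2 (iff_of_false hρ h.tA)
  have f4 : ∀ x ∈ S, x ∈ A → x ∉ n.CC → x * x * (x * x) = u := fun x xS xA e => by
    rcases f x xS xA e with e | e <;> rw [e]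
    exacts [n.c2, by rw [← mul_inv_rev, n.c2, n.uinv]]
  obtain ⟨g, -, -, e⟩ := h.trA (M := n.CC) (x0 := ρ * t) (fun a aS _ => or_iff_not_imp_left.2 fun e =>
    n.outC aS e (inv_mem xS) (by rw [inv_mem_iff]; exact n.ktC n.ρC)) xS xA fun g hg i e => by_contra fun e1 => by
      have := f4 _ e ((h.cjA g).2 (pow_mem xA _)) e1
      rw [conj_mul, conj_mul, pow_succ', pow_mul, sq, ← (Commute.refl _).mul_pow, f4 _ xS xA (n.ktC n.ρC),
        ← (Commute.refl _).mul_pow, n.u2] at this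
      exact n.u1 (by simpa using this.symm)
  have e1 := NF.Rr (n.sqR e)
  rw [conj_mul] at e1
  have e2 : g * c * g⁻¹ ∈ zpowers ρ := by
    rcases f _ xS xA (n.ktC n.ρC) with e2 | e2 <;> rw [e2] at e1
    exacts [e1, by rwa [← conj_inv, inv_mem_iff] at e1]
  exact h.a_nc n hα hρ hm (mul_mem e2 e2) e2

end H44.C4.Sit
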