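import Cfsg.Agent.Lib.C4.H

/-! S1914 (project C4), package CB: `[ρ, w] = u` and `S ⊓ A = C_S(w)`. -/

set_option autoImplicit false
set_option linter.unusedSectionVars false

namespace H44.C4.Sit
open Subgroup

variable {X : Type*} [Group X] [Finite X] {A S : Subgroup X} {t u w c ρ : X} {m : ℕ}

/-- the hypotheses of case B -/
structure BB (A S : Subgroup X) (t u w c ρ : X) (m : ℕ) : Prop where
  h : Sit A S t
  n : NF S t u w c ρ m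
  α : ρ * w ≠ w * ρ
  r : ρ ∉ A
  w : w ∈ A

namespace BB

variable (b : BB A S t u w c ρ m) {a x g k v : X}
include b

theorem xS : ρ * t ∈ S := mul_mem b.n.rS b.n.tS

theorem xA : ρ * t ∈ A := b.h.mulA.2 (iff_of_false b.r b.h.tA)

theorem uA : u ∈ A := b.h.uA b.n

theorem decB (ha : a ∈ b.n.CC) (aA : a ∈ A) : ∃ r ∈ zpowers (ρ * ρ), a = r ∨ a = r * w := by
  obtain ⟨i, rfl | rfl⟩ := b.n.mem_CC.1 ha
  · obtain ⟨l, rfl⟩ := b.h.evA b.r aA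
    exact ⟨_, NF.evR l, .inl rfl⟩
  · obtain ⟨l, rfl⟩ := b.h.evA b.r ((mul_mem_cancel_right b.w).1 aA)
    exact ⟨_, NF.evR l, .inr rfl⟩

theorem RA (ha : a ∈ zpowers (ρ * ρ)) : a ∈ A := zpowers_le.2 (b.h.sqA ρ) ha

theorem RC (ha : a ∈ zpowers (ρ * ρ)) (hx : x ∈ b.n.CC) : Commute a x := by
  obtain ⟨i, rfl⟩ := ha
  have f : ∀ j : ℤ, Commute (ρ * ρ) (ρ ^ j) := fun j => (((Commute.refl ρ).mul_left (Commute.refl ρ)).zpow_right j)
  obtain ⟨j, rfl | rfl⟩ := b.n.mem_CC.1 hx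
  exacts [(f j).zpow_left i, ((f j).mul_right (b.n.sq_w b.n.rS)).zpow_left i]

theorem Pw (ha : a ∈ S) (aA : a ∈ A) : a * w = w * a := by
  have f : ∀ a ∈ b.n.CC, a ∈ A → Commute a w := fun a ha aA => by
    obtain ⟨r, hr, rfl | rfl⟩ := b.decB ha aA
    exacts [b.RC hr b.n.wC, (b.RC hr b.n.wC).mul_left (Commute.refl w)]
  by_cases e : a ∈ b.n.CC
  · exact f a e aA
  have := (Commute.inv_left (b.n.flip b.n.rS (b.n.alpha b.α) b.n.tw)).mul_left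
    (f _ (b.n.outC b.xS (b.n.ktC b.n.ρC) ha e) (mul_mem b.xA aA))
  rwa [inv_mul_cancel_left] at this

theorem nR (hx : x ∈ S) : ∀ a ∈ zpowers (ρ * ρ), x * a * x⁻¹ ∈ zpowers (ρ * ρ) := x_zp (by
  rw [← conj_mul]
  refine b.n.sqR ?_
  by_cases e : x ∈ b.n.CC
  · exact mul_mem (mul_mem e b.n.ρC) (inv_mem e)
  obtain ⟨κ, h1, rfl⟩ := b.n.decC hx e
  have := mul_mem (mul_mem h1 (b.n.t_C b.n.ρC)) (inv_mem h1)
  rwa [show κ * (t * ρ * t⁻¹) * κ⁻¹ = κ * t * ρ * (κ * t)⁻¹ by group] at this)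

theorem ty : t * ρ ^ 2 ^ (m - 2) * t⁻¹ = (ρ ^ 2 ^ (m - 2))⁻¹ := by
  refine (b.n.t_y (b.n.m3 b.α)).resolve_right ?_
  rintro ⟨rfl, -, e⟩
  have n := b.n
  have ru : ρ * ρ * (ρ * ρ) = u := by simpa [sq] using n.y2
  obtain ⟨v, hv, e, e1⟩ : ∃ v, (v = w ∨ v = w * u) ∧ t * ρ * t⁻¹ = ρ⁻¹ * v ∧ ρ * v * ρ⁻¹ = v * u :=
    e.elim (fun e => ⟨_, .inl rfl, e, n.alpha b.α⟩) fun e =>
      ⟨_, .inr rfl, e, by rw [n.cj_wu n.rS, n.alpha b.α]⟩
  have vU : InU u w v := .inr (.inr hv)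
  have x2 : ρ * t * (ρ * t) = v := by
    rw [show ρ * t * (ρ * t) = ρ * (t * ρ * t⁻¹) * (t * t) by group, n.t2, e]; group
  have cm : Commute (ρ * ρ) (ρ * t) := ((Commute.refl ρ).mul_left (Commute.refl ρ)).mul_right (x_cm.2 (by
    rw [← conj_mul, e, show ρ⁻¹ * v * (ρ⁻¹ * v) = (ρ * ρ)⁻¹ * (ρ * v * ρ⁻¹ * v) by group, e1,
      n.uc v (n.U_S vU), mul_assoc u, n.U_sq vU, mul_one, ← ru, inv_mul_cancel_left])).symm
  obtain ⟨r0, h0, e0⟩ : ∃ r ∈ zpowers (ρ * ρ), w = r * (ρ * t) ^ (2 : ℤ) := by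
    rw [zpow_two, x2]
    rcases hv with e | e <;> rw [e]
    exacts [⟨1, one_mem _, (one_mul w).symm⟩, ⟨u, n.uR, by rw [n.uc w n.wS, ← mul_assoc, n.u2, one_mul]⟩]
  have f : ∀ a ∈ n.CC, a ∈ A → ∃ i j : ℤ, a = (ρ * ρ) ^ i * (ρ * t) ^ j := fun a ha aA => by
    obtain ⟨r, hr, e | e⟩ := b.decB ha aA
    · obtain ⟨i, e1⟩ := hr
      exact ⟨i, 0, by simp [e, ← e1]⟩
    · obtain ⟨i, e1⟩ := mul_mem hr h0
      exact ⟨i, 2, by rw [e, e0, ← mul_assoc, ← e1]⟩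
  have v1 : v ∉ zpowers ρ := by
    rcases hv with e | e <;> rw [e]
    exacts [n.wr, n.wur]
  refine b.h.brauer (mul_mem n.rS n.rS) (b.h.sqA ρ) b.xS b.xA cm (by rw [ru, n.u2]) (by rw [x2, n.U_sq vU])
    (by rw [ru]; exact n.u1) (by rw [x2]; exact fun e => v1 (e ▸ one_mem _))
    (by rw [ru, x2]; exact fun e => v1 (e ▸ n.uz)) fun s sS sA => ?_
  by_cases e : s ∈ n.CC
  · exact f s e sA
  · obtain ⟨i, j, e⟩ := f _ (n.outC sS e b.xS (n.ktC n.ρC)) (mul_mem sA b.xA)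
    exact ⟨i, j - 1, by rw [zpow_sub_one, ← mul_assoc, ← e, mul_inv_cancel_right]⟩

theorem xy (hx : x ∈ S) (e : x ∉ b.n.CC) : x * ρ ^ 2 ^ (m - 2) * x⁻¹ = (ρ ^ 2 ^ (m - 2))⁻¹ := by
  obtain ⟨κ, h1, rfl⟩ := b.n.decC hx e
  rw [show κ * t * ρ ^ 2 ^ (m - 2) * (κ * t)⁻¹ = κ * (t * ρ ^ 2 ^ (m - 2) * t⁻¹) * κ⁻¹ by group, b.ty,
    ← conj_inv, x_cm.1 (b.n.yC h1)]

theorem yA : ρ ^ 2 ^ (m - 2) ∈ A := by
  have := b.n.m3 b.α
  rw [show m - 2 = m - 3 + 1 by omega, pow_succ, pow_mul, sq]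
  exact b.h.sqA _

theorem yx (hx : x ∈ S) (e : x ∉ b.n.CC) : ρ ^ 2 ^ (m - 2) * x * (ρ ^ 2 ^ (m - 2))⁻¹ = x * u := by
  have := b.xy (inv_mem hx) (by rwa [inv_mem_iff])
  rw [← b.n.uinv, ← b.n.y2]
  generalize ρ ^ 2 ^ (m - 2) = y at *
  calc _ = x * (x⁻¹ * y * x⁻¹⁻¹) * y⁻¹ := by group
    _ = _ := by rw [this]; group

theorem fixu (hk : k ∈ A) (e : ∀ s ∈ S, s ∈ A → k * s * k⁻¹ ∈ S) : k * u * k⁻¹ = u := by
  have n := b.n
  have yS := e _ (pow_mem n.rS (2 ^ (m - 2))) b.yA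
  have yA := (b.h.cjA k).2 b.yA
  have xS := e _ b.xS b.xA
  have xA := (b.h.cjA k).2 b.xA
  have xy : k * (ρ * t) * k⁻¹ * (k * ρ ^ 2 ^ (m - 2) * k⁻¹) * (k * (ρ * t) * k⁻¹)⁻¹ =
      (k * ρ ^ 2 ^ (m - 2) * k⁻¹)⁻¹ := by rw [conj_inv, conj_inv, ← b.xy b.xS (n.ktC n.ρC)]; group
  refine n.cj_u ?_
  rw [← n.y2, ← conj_mul]
  generalize k * ρ ^ 2 ^ (m - 2) * k⁻¹ = y, k * (ρ * t) * k⁻¹ = x at *
  by_cases e1 : y ∈ n.CC
  · exact NF.Rr (n.sqR e1)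
  obtain ⟨a, aC, aA, ay⟩ : ∃ a ∈ n.CC, a ∈ A ∧ a * y * a⁻¹ = y⁻¹ := by
    by_cases e2 : x ∈ n.CC
    exacts [⟨x, e2, xA, xy⟩, ⟨x * y, n.outC xS e2 yS e1, mul_mem xA yA, by rw [← xy]; group⟩]
  obtain ⟨r, hr, e2⟩ := b.decB aC aA
  have ry : r * y * r⁻¹ = y⁻¹ := by
    rcases e2 with rfl | rfl
    · exact ay
    · rw [← ay, mul_assoc r w, ← b.Pw yS yA]; group
  have := mul_mem (b.nR yS r hr) (inv_mem hr)
  rw [show y * r * y⁻¹ * r⁻¹ = y * (r * y * r⁻¹)⁻¹ by group, ry, inv_inv] at this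
  exact NF.Rr this

theorem Pv (hv : v = w ∨ v = w * u) (ha : a ∈ S) (aA : a ∈ A) : a * v = v * a :=
  b.n.U_comm ha (b.Pw ha aA) (.inr (.inr hv))

theorem nc1 (hv : v = w ∨ v = w * u) (hg : g ∈ A) : g * v * g⁻¹ ≠ u := fun e => by
  obtain ⟨k, hk, e1, e2⟩ := b.h.extA (fun s hs _ => b.n.uc s hs) hg e
  have := mul_left_cancel (mul_right_cancel (e1.trans (b.fixu hk fun s hs sA => e2 s hs sA (b.Pv hv hs sA)).symm))
  rcases hv with e | e <;> rw [e] at this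
  exacts [b.n.wu this, b.n.wur (by rw [this]; exact b.n.uz)]

theorem nc2 (hg : g ∈ A) : g * w * g⁻¹ ≠ w * u := fun e => by
  have n := b.n
  obtain ⟨k, hk, e1, e2⟩ := b.h.extA (fun s hs sA => b.Pv (.inr rfl) hs sA) hg e
  have e3 := b.fixu hk fun s hs sA => e2 s hs sA (b.Pw hs sA)
  have := b.h.oddI (K := centralizer {u} ⊓ centralizer {w}) (g := 1) (n := k)
    (fun s hs sA => ⟨x_mC.2 (by simpa using n.uc s hs), x_mC.2 (by simpa using b.Pw hs sA)⟩) hk (fun a ha => by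
      have h1 : Commute _ _ := x_cj (x_mC.1 ha.1) k
      have h2 : Commute _ _ := x_cj (x_mC.1 ha.2) k
      rw [e3] at h1
      rw [e1] at h2
      exact ⟨x_mC.2 h1, x_mC.2 (by simpa using (h2.mul_right h1.inv_right).eq)⟩)
    ⟨x_mC.2 (Commute.mul_left (x_cm.2 e3) (x_cm.2 e3)), x_mC.2 (x_cm.2 (by
      rw [show k * k * w * (k * k)⁻¹ = k * (k * w * k⁻¹) * k⁻¹ by group, e1, ← conj_mul, e1, e3, mul_assoc,
        n.u2, mul_one]))⟩
  exact n.wu_ne (e1.symm.trans (x_cm.1 (x_mC.1 this.2)))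

/-- conjugates of `w` in `C` -/
theorem ncw (hv : v = w ∨ v = w * u) (hg : g ∈ A) (e : g * v * g⁻¹ ∈ b.n.CC) : g * v * g⁻¹ = v := by
  have n := b.n
  have vU : InU u w v := .inr (.inr hv)
  rcases n.invU e (by rw [conj_mul, n.U_sq vU]; simp) with e1 | e1 | e1 | e1
  · rw [conj_eq_one_iff] at e1
    rw [e1]; simp
  · exact absurd e1 (b.nc1 hv hg)
  · rcases hv with rfl | rfl
    exacts [e1, absurd ((congrArg (fun a => g⁻¹ * a * g⁻¹⁻¹) e1).symm.trans (by group)) (b.nc2 (inv_mem hg))]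
  · rcases hv with rfl | rfl
    exacts [absurd e1 (b.nc2 hg), e1]

theorem x2U : InU u w (ρ * t * (ρ * t)) := by
  have n := b.n
  obtain ⟨r, hr, e⟩ := b.decB (n.sqS b.xS) (b.h.sqA _)
  have rS := n.CS (n.rC (NF.Rr hr))
  have c1 : Commute r (ρ * t) := by
    have c2 : Commute (ρ * t * (ρ * t)) (ρ * t) := (Commute.refl _).mul_left (Commute.refl _)
    rcases e with e | e <;> rw [e] at c2
    exacts [c2, by simpa using c2.mul_left (Commute.symm (b.Pw b.xS b.xA)).inv_left]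
  have c2 : r * t = t * r := by simpa using ((b.RC hr n.ρC).inv_right.mul_right c1).eq
  have : InU u w r := by
    rcases n.inv_zp (NF.Rr (mul_mem hr hr)) (n.exp4 rS c2) with e1 | e1
    · exact n.invU (n.rC (NF.Rr hr)) e1
    · have ty := b.ty
      rcases n.ord4 (NF.Rr hr) e1 with e2 | e2 <;> rw [e2] at c2
      exacts [absurd ((x_cm.1 c2.symm).symm.trans ty) n.y_ne,
        absurd ((x_cm.1 (Commute.inv_left_iff.1 c2).symm).symm.trans ty) n.y_ne]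
  rcases e with e | e <;> rw [e]
  exacts [this, n.U_mul this (.inr (.inr (.inl rfl)))]

theorem ca (hv : ρ * t * (ρ * t) = w ∨ ρ * t * (ρ * t) = w * u) : False := by
  have n := b.n
  have v2 := n.U_sq b.x2U
  have xC := n.ktC n.ρC
  obtain ⟨g, hg, -, e⟩ := b.h.trA (M := n.CC) (x0 := ρ * t) (fun a aS _ => or_iff_not_imp_left.2 fun e =>
    n.outC aS e (inv_mem b.xS) (by rwa [inv_mem_iff])) b.xS b.xA fun g hg i e => by_contra fun e1 => by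
      have aA := (b.h.cjA g).2 (pow_mem b.xA (2 ^ (i + 1)))
      have a2 : g * (ρ * t) ^ 2 ^ (i + 1) * g⁻¹ * (g * (ρ * t) ^ 2 ^ (i + 1) * g⁻¹) = 1 := by
        rw [conj_mul, pow_succ', pow_mul, sq, ← (Commute.refl _).mul_pow, v2]; simp
      generalize g * (ρ * t) ^ 2 ^ (i + 1) * g⁻¹ = a at *
      obtain ⟨r, hr, e2⟩ := b.decB (n.outC e e1 (inv_mem b.xS) (by rwa [inv_mem_iff])) (mul_mem aA (inv_mem b.xA))
      have := NF.Rr (mul_mem hr (b.nR b.xS r hr))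
      have e3 : r * (ρ * t) * (r * (ρ * t)) = 1 := by
        rcases e2 with e2 | e2 <;> rw [mul_inv_eq_iff_eq_mul] at e2
        · rwa [← e2]
        · have c := b.Pw e aA
          rw [show r * (ρ * t) = a * w by
            rw [e2, mul_assoc, mul_assoc, b.Pw b.xS b.xA, ← mul_assoc w, n.w2, one_mul],
            mul_assoc, ← mul_assoc w, ← c, mul_assoc, n.w2, mul_one, a2]
      rw [show r * (ρ * t * r * (ρ * t)⁻¹) = r * (ρ * t) * (r * (ρ * t)) * (ρ * t * (ρ * t))⁻¹ by group, e3,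
        one_mul, inv_mem_iff] at this
      rcases hv with e4 | e4 <;> rw [e4] at this
      exacts [n.wr this, n.wur this]
  have e1 := n.rC (NF.Rr (n.sqR e))
  have e2 := NF.Rr (n.sqR e)
  rw [conj_mul] at e1 e2
  rw [b.ncw hv hg e1] at e2
  rcases hv with e4 | e4 <;> rw [e4] at e2
  exacts [n.wr e2, n.wur e2]

theorem fin (xS : x ∈ S) (xA : x ∈ A) (xC : x ∉ b.n.CC) (h1 : ∃ g ∈ A, g * w * g⁻¹ = x)
    (h2 : ∃ g ∈ A, g * w * g⁻¹ = x * w) : False := by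
  have n := b.n
  obtain ⟨g, hg, e⟩ := h1
  obtain ⟨g', hg', e'⟩ := h2
  obtain ⟨k, hk, e1, e2⟩ := b.h.extA (x := x) (fun s => b.Pw) (inv_mem hg) (by rw [← e]; group)
  have wS := e2 w n.wS b.w (b.Pw xS xA).symm
  have uS := e2 u n.uS b.uA (n.uc x xS).symm
  have wC : k * w * k⁻¹ ∉ n.CC := fun e3 =>
    xC (mul_left_cancel (mul_right_cancel ((b.ncw (.inl rfl) hk e3).trans e1.symm)) ▸ n.wC)
  by_cases uC : k * u * k⁻¹ ∈ n.CC
  · have e3 : k * u * k⁻¹ = u := by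
      rcases n.invU uC (by rw [conj_mul, n.u2]; simp) with e3 | e3 | e3 | e3
      exacts [absurd (conj_eq_one_iff.1 e3) n.u1, e3,
        absurd (by rw [← e3]; group) (b.nc1 (.inl rfl) (inv_mem hk)),
        absurd (by rw [← e3]; group) (b.nc1 (.inr rfl) (inv_mem hk))]
    refine b.nc2 (mul_mem (mul_mem hk b.yA) hg) ?_
    calc _ = k * (ρ ^ 2 ^ (m - 2) * (g * w * g⁻¹) * (ρ ^ 2 ^ (m - 2))⁻¹) * k⁻¹ := by group
      _ = _ := by rw [e, b.yx xS xC, ← conj_mul, e1, e3]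
  · have e3 := n.outC wS wC uS uC
    rw [conj_mul] at e3
    have e4 := b.ncw (.inr rfl) hk e3
    have e5 := b.yx (mul_mem n.wS wS) (by rwa [mul_mem_cancel_left n.wC])
    refine b.nc1 (.inl rfl) (mul_mem (mul_mem (mul_mem (inv_mem hk) b.yA) hk) hg') ?_
    calc _ = k⁻¹ * (ρ ^ 2 ^ (m - 2) * (k * (g' * w * g'⁻¹) * k⁻¹) * (ρ ^ 2 ^ (m - 2))⁻¹) * k := by group
      _ = _ := by
        rw [e', ← conj_mul (b := k), e1, e5, ← b.Pw wS ((b.h.cjA k).2 b.w), mul_assoc _ w, ← e4, conj_mul, ← mul_assoc w,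
          n.w2]
        group

theorem tr {r z : X} (hr : r = ρ * ρ ∨ r = ρ * ρ * w) (zS : z ∈ S) (zA : z ∈ A) (zC : z ∉ b.n.CC)
    (zr : z * (ρ * ρ) * z⁻¹ = (ρ * ρ)⁻¹) (zz : z * z = 1 ∨ z * z = u) :
    ∃ g ∈ A, g * w * g⁻¹ = z ∨ g * w * g⁻¹ = r * z := by
  have n := b.n
  have c1 : Commute (ρ * ρ) w := n.sq_w n.rS
  have rr : r * r = ρ ^ 4 := by
    rcases hr with e | e <;> rw [e]
    · simp only [pow_succ, pow_zero, one_mul, mul_assoc]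
    · rw [c1.symm.mul_mul_mul_comm, n.w2]; simp only [pow_succ, pow_zero, one_mul, mul_one, mul_assoc]
  have rC : r ∈ n.CC := by
    rcases hr with e | e <;> rw [e]
    exacts [mul_mem n.ρC n.ρC, mul_mem (mul_mem n.ρC n.ρC) n.wC]
  have rA : r ∈ A := by
    rcases hr with e | e <;> rw [e]
    exacts [b.h.sqA ρ, mul_mem (b.h.sqA ρ) b.w]
  have zr' : z * r * z⁻¹ = r⁻¹ := by
    rcases hr with e | e <;> rw [e]
    exacts [zr, by rw [← conj_mul, zr, x_cm.1 (b.Pw zS zA), c1.eq, mul_inv_rev w, n.winv]]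
  have m3 := n.m3 b.α
  have uM : u ∈ zpowers r := by
    rw [← n.ru, show m - 1 = 2 + (m - 3) by omega, pow_add, pow_mul, show 2 ^ 2 = 4 from rfl, ← rr]
    exact pow_mem (mul_mem (mem_zpowers r) (mem_zpowers r)) _
  have wr : ∀ a ∈ zpowers r, w * a * w⁻¹ ∈ zpowers r :=
    x_zp (by rw [x_cm.1 (b.Pw (n.CS rC) rA).symm]; exact mem_zpowers r)
  have f : ∀ a ∈ n.CC, a ∈ A → a ∈ ext2 (zpowers r) w wr (n.w2 ▸ one_mem _) := fun a ha aA => by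
    have hw : w ∈ ext2 (zpowers r) w wr (n.w2 ▸ one_mem _) := .inr (by simp)
    have h1 : zpowers (ρ * ρ) ≤ ext2 (zpowers r) w wr (n.w2 ▸ one_mem _) := zpowers_le.2 (by
      rcases hr with e | e
      exacts [.inl (e ▸ mem_zpowers r), (mul_mem_cancel_right hw).1 (.inl (e ▸ mem_zpowers r))])
    obtain ⟨s, hs, rfl | rfl⟩ := b.decB ha aA
    exacts [h1 hs, mul_mem (h1 hs) hw]
  have nz : ∀ a ∈ zpowers r, z * a * z⁻¹ ∈ zpowers r := x_zp (by rw [zr']; exact inv_mem (mem_zpowers r))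
  have z2 : z * z ∈ zpowers r := by
    rcases zz with e | e <;> rw [e]
    exacts [one_mem _, uM]
  obtain ⟨g, hg, -, e⟩ := b.h.trA (M := ext2 (zpowers r) z nz z2) (x0 := w) (fun a aS aA => by
    by_cases e : a ∈ n.CC
    · exact (f a e aA).imp .inl .inl
    · have hz : z ∈ ext2 (zpowers r) z nz z2 := .inr (by simp)
      exact (f _ (n.outC zS zC aS e) (mul_mem zA aA)).imp (fun e => (mul_mem_cancel_left hz).1 (.inl e))
        fun e => (mul_mem_cancel_left hz).1 (.inl (by rwa [← mul_assoc]))) n.wS b.w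
    fun g _ i _ => by rw [x_p2 n.w2]; simp
  obtain ⟨i, e⟩ | ⟨i, e⟩ := e <;> beta_reduce at e
  · rw [b.ncw (.inl rfl) hg (e ▸ zpow_mem rC i)] at e
    have e1 : ρ ^ (4 * i) = 1 := by
      rw [zpow_mul, zpow_ofNat, ← rr, (Commute.refl r).mul_zpow, e, n.w2]
    obtain ⟨l, rfl⟩ : 2 ∣ i := by
      have := (pow_dvd_pow 2 m3).trans (n.zpow_eq_one.1 e1)
      omega
    rw [zpow_mul, zpow_two, rr] at e
    exact absurd (e ▸ zpow_mem (pow_mem (mem_zpowers ρ) 4) l) n.wr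
  have e1 : ∀ l : ℤ, z * r ^ l * z⁻¹ = r ^ (-l) := fun l => by rw [← conj_zpow, zr']; simp
  rw [eq_mul_inv_iff_mul_eq] at e
  obtain ⟨l, rfl | rfl⟩ := Int.even_or_odd' i
  all_goals refine ⟨r ^ (-l) * g, mul_mem (zpow_mem rA _) hg, ?_⟩
  all_goals rw [show r ^ (-l) * g * w * (r ^ (-l) * g)⁻¹ = r ^ (-l) * (g * w * g⁻¹ * z⁻¹) * (z * r ^ l * z⁻¹) * z
    by group, e1, ← e]
  exacts [.inl (by group), .inr (by group)]

end BB

theorem caseB (h : Sit A S t) (n : NF S t u w c ρ m) (hα : ρ * w ≠ w * ρ) (hρ : ρ ∉ A) (hw : w ∈ A) : False := by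
  have b : BB A S t u w c ρ m := ⟨h, n, hα, hρ, hw⟩
  obtain x2 | x2 := or_assoc.2 b.x2U
  swap
  · exact b.ca x2
  have xr : ρ * t * (ρ * ρ) * (ρ * t)⁻¹ = (ρ * ρ)⁻¹ := by
    have e : ρ * t * ρ * (ρ * t)⁻¹ = ρ * t * (ρ * t) * ρ⁻¹ := by
      rw [mul_inv_rev, n.tinv]; group
    rw [← conj_mul, e]
    rcases x2 with e1 | e1 <;> rw [e1]
    · group
    · rw [← n.uc _ (inv_mem n.rS), mul_assoc, ← mul_assoc u, ← n.uc _ (inv_mem n.rS), mul_assoc, n.u2]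
      group
  have xC := n.ktC n.ρC
  have c1 := b.Pw b.xS b.xA
  have c2 : ρ * ρ * w = w * (ρ * ρ) := n.sq_w n.rS
  have xS := b.xS
  have xA := b.xA
  generalize ρ * t = x at *
  have t0 := fun r hr => b.tr (r := r) hr xS xA xC xr x2
  have t1 := fun r hr => b.tr (r := r) hr (mul_mem xS n.wS) (mul_mem xA hw) (by rwa [mul_mem_cancel_right n.wC])
    (by rw [← xr, mul_assoc x, ← c2]; group)
    (by rwa [mul_assoc, ← mul_assoc w, ← c1, mul_assoc, n.w2, mul_one])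
  have f0 := b.fin xS xA xC
  have f1 := b.fin (mul_mem (mul_mem n.rS n.rS) xS) (mul_mem (h.sqA ρ) xA)
    (by rwa [mul_mem_cancel_left (mul_mem n.ρC n.ρC)])
  obtain ⟨g1, h1, e1⟩ := t0 _ (.inl rfl)
  obtain ⟨g2, h2, e2⟩ := t0 _ (.inr rfl)
  obtain ⟨g3, h3, e3⟩ := t1 _ (.inl rfl)
  obtain ⟨g4, h4, e4⟩ := t1 _ (.inr rfl)
  rw [mul_assoc (ρ * ρ) w, ← c1, ← mul_assoc] at e2
  rw [← mul_assoc] at e3
  rw [c1, mul_assoc (ρ * ρ) w, ← mul_assoc w, n.w2, one_mul, ← c1] at e4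
  by_cases p : ∃ g ∈ A, g * w * g⁻¹ = x
  · have q := f0 p
    exact f1 ⟨g4, h4, e4.resolve_left fun e => q ⟨_, h4, e⟩⟩ ⟨g3, h3, e3.resolve_left fun e => q ⟨_, h3, e⟩⟩
  · exact f1 ⟨g1, h1, e1.resolve_left fun e => p ⟨_, h1, e⟩⟩ ⟨g2, h2, e2.resolve_left fun e => p ⟨_, h2, e⟩⟩

end H44.C4.Sit
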