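import Cfsg.Agent.Lib.C4.H

/-! S1914 (project C4), package CK: `[ρ, w] = u` and `S ⊓ A` has a cyclic subgroup of index 2. -/

set_option autoImplicit false

namespace H44.C4.Sit
open Subgroup

variable {X : Type*} [Group X] [Finite X] {A S : Subgroup X} {t u w c ρ : X} {m : ℕ}

theorem caseK_odd (h : Sit A S t) (n : NF S t u w c ρ m) (hα : ρ * w ≠ w * ρ) (hρ : ρ ∈ A) (hw : w ∉ A)
    (s2 : ρ * w * t * (ρ * w * t) = 1) : False := by
  have sS := mul_mem (mul_mem n.rS n.wS) n.tS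
  have sA : ρ * w * t ∈ A := by rw [mul_assoc]; exact mul_mem hρ (h.mulA.2 (iff_of_false hw h.tA))
  have sw : ρ * w * t * w = w * (ρ * w * t) := n.flip (mul_mem n.rS n.wS) (by
    rw [mul_inv_rev, mul_assoc, ← mul_assoc w, mul_inv_cancel, one_mul, n.alpha hα]) n.tw
  have ti : t * ρ * t⁻¹ = ρ⁻¹ := by
    have e : ρ * w * (t * ρ * t⁻¹ * (t * w * t⁻¹)) * (t * t) = 1 := by rw [← s2]; group
    rw [n.t2, mul_one, n.tw, ← n.alpha hα, mul_eq_one_iff_eq_inv', ← eq_mul_inv_iff_mul_eq] at e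
    have e1 := n.uc _ (inv_mem n.rS)
    calc _ = w⁻¹ * ρ⁻¹ * (ρ * w * ρ⁻¹)⁻¹ := by rw [e]; group
      _ = _ := by rw [n.winv, conj_inv, n.winv]; simp [← mul_assoc, n.w2]
  have h1 : ∀ g : X, g * t * g⁻¹ ∈ S → g * t * g⁻¹ ∉ centralizer ({w} : Set X) := fun g hg e => by
    rw [x_mC] at e
    have t2 : g * t * g⁻¹ * (g * t * g⁻¹) = 1 := by rw [conj_mul, n.t2]; simp
    have e1 := h.no4 g
    have e2 := (h.cjA g).not.2 h.tA
    generalize g * t * g⁻¹ = r at *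
    have : InU u w r := by
      rcases e1 (r * w) u (h.mulA.2 (iff_of_false e2 hw)) (h.uA n)
        (by rw [mul_assoc, ← mul_assoc w, ← e, mul_assoc, n.w2, mul_one, t2]) n.u2 (n.uc _ (mul_mem hg n.wS))
        (by rw [mul_assoc, e]) (n.uc _ hg).symm with e3 | e3 | e3
      · exact .inr (.inr (.inl ((eq_inv_of_mul_eq_one_left e3).trans n.winv)))
      · exact absurd e3 n.u1
      · exact .inr (.inr (.inr (by rw [n.uc w n.wS, ← e3, mul_assoc, n.w2, mul_one])))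
    rcases e1 _ u sA (h.uA n) s2 n.u2 (n.uc _ sS) (n.U_comm sS sw this) (n.uc _ hg).symm with e3 | e3 | e3
    · exact n.ktC (mul_mem n.ρC n.wC) (e3 ▸ one_mem _)
    · exact n.u1 e3
    · exact n.ktC (mul_mem n.ρC n.wC) (by rw [e3]; exact n.rC n.uz)
  refine h.trX (M := centralizer {w}) (fun a ha => or_iff_not_imp_left.2 fun e => x_mC.2 ?_) n.w2 hw h1
    fun g hg => x_mC.2 ?_
  · rw [n.tinv]; exact n.flip ha (n.cjw ha (x_mC.not.1 e)) n.tw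
  have e2 := (h.cjA g).not.2 hw
  have w2 : g * w * g⁻¹ * (g * w * g⁻¹) = 1 := by rw [conj_mul, n.w2]; simp
  obtain ⟨i, e | e | e | e⟩ := n.dec _ hg
  · exact absurd (e ▸ zpow_mem hρ i) e2
  · exact (n.U_comm n.wS rfl (n.invC (.inr e) w2)).symm
  · obtain ⟨l, rfl | rfl⟩ := Int.even_or_odd' i
    · have e3 : g⁻¹ * ρ ^ l * t * (g⁻¹ * ρ ^ l)⁻¹ = w := by
        have : t * ρ ^ (-l) * t⁻¹ = ρ ^ l := by rw [← conj_zpow, ti]; simp
        calc _ = g⁻¹ * (ρ ^ l * (t * ρ ^ (-l) * t⁻¹) * t) * g := by group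
          _ = _ := by rw [this, ← zpow_add, ← two_mul, ← e]; group
      exact absurd (by rw [e3, x_mC]) (h1 _ (e3 ▸ n.wS))
    · rw [e]; exact n.flip (zpow_mem n.rS _) (n.odd_w hα l) n.tw
  · rw [mul_assoc (ρ ^ i)] at e
    exact absurd (e ▸ mul_mem (zpow_mem hρ i) (h.mulA.2 (iff_of_false hw h.tA))) e2

theorem caseK (h : Sit A S t) (n : NF S t u w c ρ m) (hα : ρ * w ≠ w * ρ) (hρ : ρ ∈ A) : False := by
  obtain ⟨s, sS, sA, s2, s1, g, hg, e⟩ := h.su n hρ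
  have fin : ∀ k y : X, y * y = u → k * s * k⁻¹ = u → k * y * k⁻¹ * (k * y * k⁻¹) ∉ zpowers ρ := fun k y e1 e2 e3 => by
    rw [conj_mul, e1] at e3
    exact s1 (mul_left_cancel (mul_right_cancel (e2.trans (n.cj_u e3).symm)) ▸ n.uz)
  have r : ∀ i : ℤ, ρ ^ i ∈ A := zpow_mem hρ
  obtain ⟨i, rfl | rfl | rfl | rfl⟩ := n.dec s sS
  · exact s1 ⟨i, rfl⟩
  · have hw := (mul_mem_cancel_left (r i)).1 sA
    obtain ⟨k, hk, e1, e2⟩ := h.extA (fun s hs _ => n.uc s hs) hg e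
    have e3 := e2 _ (pow_mem n.rS _) (pow_mem hρ _) (n.yC (n.mem_CC.2 ⟨i, .inr rfl⟩)).symm
    refine fin k _ n.y2 e1 (NF.Rr (n.sqR (by_contra fun e4 => ?_)))
    obtain ⟨κ, h1, e5⟩ := n.decC e3 e4
    obtain ⟨j, rfl | rfl⟩ := n.mem_CC.1 h1
    exacts [h.tA ((mul_mem_cancel_left (r j)).1 (e5 ▸ (h.cjA k).2 (pow_mem hρ _))),
      h.tA ((mul_mem_cancel_left (mul_mem (r j) hw)).1 (e5 ▸ (h.cjA k).2 (pow_mem hρ _)))]
  · exact h.tA ((mul_mem_cancel_left (r i)).1 sA)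
  have hw : w ∉ A := fun e => h.tA ((mul_mem_cancel_left (mul_mem (r i) e)).1 sA)
  obtain ⟨l, rfl | rfl⟩ := Int.even_or_odd' i
  · obtain ⟨k, e1, e2⟩ := h.extX n.uc e
    have e3 := e2 c n.cS (Commute.mul_right (Commute.mul_right (by
      obtain ⟨v, hv, rfl⟩ := n.cU'
      exact Commute.mul_left (n.yC (n.rC ⟨_, rfl⟩)).symm (n.U_comm (zpow_mem n.rS _) (n.even_w l) hv).symm) n.cw) n.ct)
    refine fin k c n.c2 e1 ?_
    obtain ⟨j, e4 | e4⟩ := n.mem_CC.1 (n.sqS e3)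
    · exact ⟨j, e4.symm⟩
    · exact absurd ((mul_mem_cancel_left (r j)).1 (e4 ▸ h.sqA _)) hw
  · exact h.caseK_odd (n.regen1 ⟨l, rfl⟩) (fun e => n.wu_ne ((n.odd_w hα l).symm.trans (x_cm.1 e))) (r _) hw s2

end H44.C4.Sit
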