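import Mathlib

/-! S1914 (project C4): an involution `t` outside a perfect subgroup `A` of index 2 whose centraliser in a
Sylow 2-subgroup of `A` is cyclic of order 4.  Definitions and the basic calculus of the normal form. -/

set_option autoImplicit false

namespace H44.C4
open Subgroup

variable {X : Type*} [Group X]

/-- `H ∪ H x` for an element `x` normalising `H` with `x² ∈ H`. -/
def ext2 (H : Subgroup X) (x : X) (hn : ∀ h ∈ H, x * h * x⁻¹ ∈ H) (h2 : x * x ∈ H) : Subgroup X where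
  carrier := {a | a ∈ H ∨ a * x⁻¹ ∈ H}
  one_mem' := .inl H.one_mem
  mul_mem' := by
    rintro a b (ha | ha) (hb | hb)
    · exact .inl (H.mul_mem ha hb)
    · exact .inr (by rw [mul_assoc]; exact H.mul_mem ha hb)
    · refine .inr ?_
      have := H.mul_mem ha (hn b hb)
      convert this using 1; group
    · refine .inl ?_
      have := H.mul_mem (H.mul_mem ha (hn _ hb)) h2
      convert this using 1; group
  inv_mem' := by
    rintro a (ha | ha)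
    · exact .inl (H.inv_mem ha)
    · refine .inr ?_
      have h5 : a⁻¹ * x⁻¹ = (x * x)⁻¹ * (x * (a * x⁻¹)⁻¹ * x⁻¹) := by group
      rw [h5]
      exact H.mul_mem (H.inv_mem h2) (hn _ (H.inv_mem ha))

theorem mem_ext2 {H : Subgroup X} {x : X} {hn : ∀ h ∈ H, x * h * x⁻¹ ∈ H} {h2 : x * x ∈ H} {a : X} :
    a ∈ ext2 H x hn h2 ↔ a ∈ H ∨ a * x⁻¹ ∈ H := Iff.rfl

/-- The global situation: `A` perfect of index 2, `S` a Sylow 2-subgroup containing the involution `t ∉ A`,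
`S ⊓ A` contains a four-group, but no four-group of `A` centralises a conjugate of `t`. -/
structure Sit (A S : Subgroup X) (t : X) : Prop where
  idx : A.index = 2
  perf : ⁅A, A⁆ = A
  isP : IsPGroup 2 S
  odd : Odd S.index
  tS : t ∈ S
  tA : t ∉ A
  t2 : t * t = 1
  four : ∃ a b : X, a ∈ S ∧ a ∈ A ∧ b ∈ S ∧ b ∈ A ∧ a * a = 1 ∧ b * b = 1 ∧ a * b = b * a ∧
    a ≠ 1 ∧ b ≠ 1 ∧ a ≠ b
  no4 : ∀ g a b : X, a ∈ A → b ∈ A → a * a = 1 → b * b = 1 → a * b = b * a →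
    a * (g * t * g⁻¹) = g * t * g⁻¹ * a → b * (g * t * g⁻¹) = g * t * g⁻¹ * b → a = 1 ∨ b = 1 ∨ a = b

/-- Normal form of the 2-group `S`: `U = {1, u, w, w u}` is a normal four-group on which `t` acts non-trivially,
`C = ⟨ρ⟩ ∪ ⟨ρ⟩ w` has index 2 in `S`, `C_S(t) = ⟨t⟩ × ⟨c⟩`. -/
structure NF (S : Subgroup X) (t u w c ρ : X) (m : ℕ) : Prop where
  tS : t ∈ S
  wS : w ∈ S
  rS : ρ ∈ S
  t2 : t * t = 1
  w2 : w * w = 1
  uc : ∀ x ∈ S, x * u = u * x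
  tw : t * w * t⁻¹ = w * u
  nw : ∀ x ∈ S, x * w * x⁻¹ = w ∨ x * w * x⁻¹ = w * u
  ct : c * t = t * c
  cw : c * w = w * c
  c2 : c * c = u
  cent : ∀ x ∈ S, x * t = t * x → x * w = w * x → x ∈ zpowers c
  m2 : 2 ≤ m
  ord : orderOf ρ = 2 ^ m
  ru : ρ ^ 2 ^ (m - 1) = u
  wr : w ∉ zpowers ρ
  cU : c = ρ ^ 2 ^ (m - 2) ∨ c = ρ ^ 2 ^ (m - 2) * u ∨ c = ρ ^ 2 ^ (m - 2) * w ∨ c = ρ ^ 2 ^ (m - 2) * w * u
  dec : ∀ x ∈ S, ∃ i : ℤ, x = ρ ^ i ∨ x = ρ ^ i * w ∨ x = ρ ^ i * t ∨ x = ρ ^ i * w * t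

namespace Sit
variable {A S : Subgroup X} {t : X}

theorem mulA (h : Sit A S t) {a b : X} : a * b ∈ A ↔ (a ∈ A ↔ b ∈ A) := mul_mem_iff_of_index_two h.idx

theorem sqA (h : Sit A S t) (a : X) : a * a ∈ A := h.mulA.2 Iff.rfl

theorem cjA (h : Sit A S t) (g : X) {a : X} : g * a * g⁻¹ ∈ A ↔ a ∈ A := by
  rw [h.mulA, h.mulA, inv_mem_iff]; tauto

end Sit

namespace NF
variable {S : Subgroup X} {t u w c ρ : X} {m : ℕ}

theorem u2 (n : NF S t u w c ρ m) : u * u = 1 := by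
  have := n.m2
  rw [← n.ru, ← pow_add, ← two_mul, ← pow_succ', show m - 1 + 1 = m by omega, ← n.ord, pow_orderOf_eq_one]

theorem u1 (n : NF S t u w c ρ m) : u ≠ 1 := by
  intro h
  have := n.m2
  have h1 := orderOf_dvd_of_pow_eq_one (n.ru.trans h)
  rw [n.ord, Nat.pow_dvd_pow_iff_le_right (by norm_num)] at h1
  omega

theorem uz (n : NF S t u w c ρ m) : u ∈ zpowers ρ := n.ru ▸ pow_mem (mem_zpowers ρ) _

theorem uS (n : NF S t u w c ρ m) : u ∈ S := zpowers_le.2 n.rS n.uz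

theorem cS (n : NF S t u w c ρ m) : c ∈ S := by
  have h := pow_mem n.rS (2 ^ (m - 2))
  rcases n.cU with e | e | e | e <;> rw [e]
  exacts [h, mul_mem h n.uS, mul_mem h n.wS, mul_mem (mul_mem h n.wS) n.uS]

theorem uinv (n : NF S t u w c ρ m) : u⁻¹ = u := inv_eq_of_mul_eq_one_right n.u2
theorem winv (n : NF S t u w c ρ m) : w⁻¹ = w := inv_eq_of_mul_eq_one_right n.w2
theorem tinv (n : NF S t u w c ρ m) : t⁻¹ = t := inv_eq_of_mul_eq_one_right n.t2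
theorem cinv (n : NF S t u w c ρ m) : c⁻¹ = c * u := by
  refine inv_eq_of_mul_eq_one_right ?_
  rw [← mul_assoc, n.c2, n.u2]

theorem w1 (n : NF S t u w c ρ m) : w ≠ 1 := fun e => n.wr (e ▸ one_mem _)
theorem wu (n : NF S t u w c ρ m) : w ≠ u := fun e => n.wr (e ▸ n.uz)
theorem wur (n : NF S t u w c ρ m) : w * u ∉ zpowers ρ := fun e => n.wr ((mul_mem_cancel_right n.uz).1 e)
theorem wu_ne (n : NF S t u w c ρ m) : w * u ≠ w := fun e => n.u1 (mul_eq_left.1 e)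
theorem tw_ne (n : NF S t u w c ρ m) : t * w ≠ w * t := fun e => n.wu_ne (by rw [← n.tw, e]; group)

/-- `y' = ρ ^ 2 ^ (m - 2)` has square `u`. -/
theorem y2 (n : NF S t u w c ρ m) : ρ ^ 2 ^ (m - 2) * ρ ^ 2 ^ (m - 2) = u := by
  have := n.m2
  rw [← n.ru, ← pow_add, ← two_mul, ← pow_succ', show m - 2 + 1 = m - 1 by omega]

theorem yinv (n : NF S t u w c ρ m) : (ρ ^ 2 ^ (m - 2))⁻¹ = ρ ^ 2 ^ (m - 2) * u := by
  refine inv_eq_of_mul_eq_one_right ?_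
  rw [← mul_assoc, n.y2, n.u2]

/-- Conjugation of `w u`. -/
theorem cj_wu (n : NF S t u w c ρ m) {x : X} (hx : x ∈ S) : x * (w * u) * x⁻¹ = x * w * x⁻¹ * u := by
  rw [mul_assoc (x * w), n.uc _ (inv_mem hx)]; group

/-- Squares of elements of `S` commute with `w`. -/
theorem sq_w (n : NF S t u w c ρ m) {x : X} (hx : x ∈ S) : x * x * w = w * (x * x) := by
  have : x * (x * w * x⁻¹) * x⁻¹ = w := by
    rcases n.nw x hx with e | e
    · rw [e, e]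
    · rw [e, n.cj_wu hx, e, mul_assoc, n.u2, mul_one]
  calc x * x * w = x * (x * w * x⁻¹) * x⁻¹ * (x * x) := by group
    _ = w * (x * x) := by rw [this]

theorem even_w (n : NF S t u w c ρ m) (k : ℤ) : ρ ^ (2 * k) * w = w * ρ ^ (2 * k) := by
  have := n.sq_w (zpow_mem n.rS k)
  rwa [← zpow_add, ← two_mul] at this

theorem m3 (n : NF S t u w c ρ m) (h : ρ * w ≠ w * ρ) : 3 ≤ m := by
  by_contra hm
  have hm : m = 2 := by have := n.m2; omega
  have h1 := n.cU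
  have h2 := n.cw
  have h3 := n.uc w n.wS
  simp only [hm, Nat.sub_self, pow_zero, pow_one] at h1
  apply h
  rcases h1 with e | e | e | e <;> rw [e] at h2
  · exact h2
  · rw [mul_assoc, ← h3, ← mul_assoc, ← mul_assoc] at h2; exact mul_right_cancel h2
  · rw [← mul_assoc] at h2; exact mul_right_cancel h2
  · rw [mul_assoc _ u, ← h3, ← mul_assoc, ← mul_assoc, ← mul_assoc] at h2
    exact mul_right_cancel (mul_right_cancel h2)

theorem alpha (n : NF S t u w c ρ m) (h : ρ * w ≠ w * ρ) : ρ * w * ρ⁻¹ = w * u :=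
  (n.nw ρ n.rS).resolve_left fun e => h (by rw [← mul_inv_eq_iff_eq_mul]; exact e)

/-- `y'` commutes with `w`. -/
theorem y_w (n : NF S t u w c ρ m) : ρ ^ 2 ^ (m - 2) * w = w * ρ ^ 2 ^ (m - 2) := by
  by_cases h : ρ * w = w * ρ
  · exact (Commute.pow_left h _).eq
  · have := n.m3 h
    have h1 := n.sq_w (pow_mem n.rS (2 ^ (m - 3)))
    rwa [← pow_add, ← two_mul, ← pow_succ', show m - 3 + 1 = m - 2 by omega] at h1

theorem zpow_eq_one (n : NF S t u w c ρ m) {i : ℤ} : ρ ^ i = 1 ↔ (2 : ℤ) ^ m ∣ i := by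
  rw [← orderOf_dvd_iff_zpow_eq_one, n.ord]; push_cast; rfl

/-- The only involution of `⟨ρ⟩` is `u`. -/
theorem inv_zp (n : NF S t u w c ρ m) {x : X} (hx : x ∈ zpowers ρ) (h : x * x = 1) : x = 1 ∨ x = u := by
  obtain ⟨i, rfl⟩ := mem_zpowers_iff.1 hx
  have := n.m2
  rw [← zpow_add, ← two_mul, n.zpow_eq_one, show m = (m - 1) + 1 by omega, pow_succ'] at h
  obtain ⟨k, rfl⟩ := Int.dvd_of_mul_dvd_mul_left (by norm_num) h
  have e : ρ ^ ((2 : ℤ) ^ (m - 1)) = u := by rw [← n.ru]; norm_cast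
  rw [zpow_mul, e]
  rcases Int.even_or_odd' k with ⟨l, rfl | rfl⟩
  · left; rw [zpow_mul, zpow_two, n.u2, one_zpow]
  · right; rw [zpow_add, zpow_mul, zpow_two, n.u2, one_zpow, one_mul, zpow_one]

/-- The elements of `⟨ρ⟩` with square `u`. -/
theorem ord4 (n : NF S t u w c ρ m) {x : X} (hx : x ∈ zpowers ρ) (h : x * x = u) :
    x = ρ ^ 2 ^ (m - 2) ∨ x = (ρ ^ 2 ^ (m - 2))⁻¹ := by
  have hy : ρ ^ 2 ^ (m - 2) ∈ zpowers ρ := pow_mem (mem_zpowers ρ) _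
  have hc : ρ ^ 2 ^ (m - 2) * x = x * ρ ^ 2 ^ (m - 2) := by
    obtain ⟨i, rfl⟩ := mem_zpowers_iff.1 hx
    exact (Commute.pow_left (Commute.zpow_right (Commute.refl ρ) i) _).eq
  have h1 : x * ρ ^ 2 ^ (m - 2) * (x * ρ ^ 2 ^ (m - 2)) = 1 := by
    rw [mul_assoc, ← mul_assoc (ρ ^ _), hc, mul_assoc, n.y2, ← mul_assoc, h, n.u2]
  rcases n.inv_zp (mul_mem hx hy) h1 with e | e
  · exact .inr (eq_inv_of_mul_eq_one_left e)
  · left; rw [← n.y2] at e; exact mul_right_cancel e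

/-- The square of an element `ρ ^ i * w`. -/
theorem sq_rw (n : NF S t u w c ρ m) (i : ℤ) :
    ρ ^ i * w * (ρ ^ i * w) = ρ ^ (2 * i) ∨ (ρ ^ i * w * (ρ ^ i * w) = ρ ^ (2 * i) * u ∧ Odd i ∧ 3 ≤ m) := by
  have e0 : ρ ^ i * w * (ρ ^ i * w) = ρ ^ (2 * i) * ((ρ ^ i)⁻¹ * w * (ρ ^ i)⁻¹⁻¹ * w) := by
    rw [two_mul, zpow_add]; group
  rcases n.nw _ (inv_mem (zpow_mem n.rS i)) with e | e
  · left; rw [e0, e, n.w2, mul_one]
  · right
    refine ⟨by rw [e0, e, n.uc w n.wS, mul_assoc u, n.w2, mul_one], ?_, ?_⟩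
    · rcases Int.even_or_odd' i with ⟨l, rfl | rfl⟩
      · exfalso
        rw [inv_inv, mul_assoc, ← n.even_w, inv_mul_cancel_left] at e
        exact n.wu_ne e.symm
      · exact ⟨l, rfl⟩
    · refine n.m3 fun h => ?_
      rw [inv_inv, mul_assoc, ← (Commute.zpow_left h i).eq, inv_mul_cancel_left] at e
      exact n.wu_ne e.symm

theorem sq_rw_mem (n : NF S t u w c ρ m) (i : ℤ) : ρ ^ i * w * (ρ ^ i * w) ∈ zpowers ρ := by
  rcases n.sq_rw i with e | ⟨e, -⟩ <;> rw [e]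
  exacts [zpow_mem (mem_zpowers ρ) _, mul_mem (zpow_mem (mem_zpowers ρ) _) n.uz]

/-- The involutions of `⟨ρ⟩ w` are `w` and `w u`. -/
theorem inv_rw (n : NF S t u w c ρ m) {i : ℤ} (h : ρ ^ i * w * (ρ ^ i * w) = 1) :
    ρ ^ i * w = w ∨ ρ ^ i * w = w * u := by
  rcases n.sq_rw i with e | ⟨e, ⟨l, rfl⟩, h3⟩
  · rw [e, two_mul, zpow_add] at h
    rcases n.inv_zp (zpow_mem (mem_zpowers ρ) i) h with e | e <;> rw [e]
    · left; rw [one_mul]
    · right; rw [n.uc w n.wS]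
  · exfalso
    rw [e, mul_eq_one_iff_eq_inv, n.uinv] at h
    have h4 : ρ ^ (2 * (2 * l + 1) + 2 * (2 * l + 1)) = 1 := by rw [zpow_add, h, n.u2]
    rw [n.zpow_eq_one] at h4
    have h5 : (2 : ℤ) ^ 3 ∣ _ := (pow_dvd_pow 2 h3).trans h4
    omega

theorem t_ne (n : NF S t u w c ρ m) (i : ℤ) : t ≠ ρ ^ i ∧ t ≠ ρ ^ i * w := by
  constructor
  · intro e
    rcases n.inv_zp (e ▸ zpow_mem (mem_zpowers ρ) i) n.t2 with h | h
    · exact n.tw_ne (by rw [h, one_mul, mul_one])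
    · exact n.tw_ne (by rw [h, n.uc w n.wS])
  · intro e
    rcases n.inv_rw (e ▸ n.t2) with h | h <;> rw [← e] at h
    · exact n.tw_ne (by rw [h])
    · exact n.tw_ne (by rw [h, mul_assoc, n.uc w n.wS])

/-- `t` normalises `C = ⟨ρ⟩ ∪ ⟨ρ⟩ w`. -/
theorem norm_t (n : NF S t u w c ρ m) : ∃ j : ℤ, t * ρ * t⁻¹ = ρ ^ j ∨ t * ρ * t⁻¹ = ρ ^ j * w := by
  obtain ⟨j, e | e | e | e⟩ := n.dec _ (mul_mem (mul_mem n.tS n.rS) (inv_mem n.tS))
  · exact ⟨j, .inl e⟩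
  · exact ⟨j, .inr e⟩
  · exfalso
    rw [n.tinv] at e
    exact (n.t_ne (j - 1)).1 (by rw [zpow_sub, zpow_one, ← mul_right_cancel e]; group)
  · exfalso
    rw [n.tinv] at e
    have e1 : t = ρ ^ (j - 1) * (ρ * w * ρ⁻¹) := by
      rw [zpow_sub, zpow_one, eq_mul_inv_of_mul_eq (mul_right_cancel e)]; group
    rcases n.nw ρ n.rS with h | h <;> rw [h] at e1
    · exact (n.t_ne _).2 e1
    · refine (n.t_ne (j - 1 + 2 ^ (m - 1))).2 ?_
      have e : ρ ^ ((2 : ℤ) ^ (m - 1)) = u := by rw [← n.ru]; norm_cast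
      rw [e1, zpow_add, e, mul_assoc, n.uc w n.wS]

/-- `C_S(t)` has exponent 4. -/
theorem exp4 (n : NF S t u w c ρ m) {x : X} (hx : x ∈ S) (h : x * t = t * x) : x * x * (x * x) = 1 := by
  have h1 : x * x * t = t * (x * x) := by rw [mul_assoc, h, ← mul_assoc, h, mul_assoc]
  have key : ∀ z ∈ zpowers c, z * z * (z * z) = 1 := by
    intro z hz
    obtain ⟨k, rfl⟩ := mem_zpowers_iff.1 hz
    rw [← (Commute.refl c).mul_zpow, n.c2, ← (Commute.refl u).mul_zpow, n.u2, one_zpow]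
  rcases n.nw x hx with e | e
  · exact key x (n.cent x hx h (by rw [← mul_inv_eq_iff_eq_mul]; exact e))
  · have h2 : x * t * w = w * (x * t) := by
      rw [← mul_inv_eq_iff_eq_mul]
      calc x * t * w * (x * t)⁻¹ = x * (t * w * t⁻¹) * x⁻¹ := by group
        _ = w := by rw [n.tw, n.cj_wu hx, e, mul_assoc, n.u2, mul_one]
    have h3 := key _ (n.cent _ (mul_mem hx n.tS) (by rw [← mul_assoc, ← h]) h2)
    have h4 : x * t * (x * t) = x * x := by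
      rw [mul_assoc, ← mul_assoc t, ← h, mul_assoc, n.t2, mul_one]
    rwa [h4] at h3

end NF

end H44.C4
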