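import Cfsg.Agent.Lib.C4.T

/-! S1914 (project C4): the subgroup `C = ⟨ρ⟩ ∪ ⟨ρ⟩ w`, shared by the packages CA, CK, CB. -/

set_option autoImplicit false
set_option linter.unusedSectionVars false

namespace H44.C4
open Subgroup

variable {X : Type*} [Group X] {A S : Subgroup X} {t u w c ρ x k a b : X} {m : ℕ}

theorem x_zp {H : Subgroup X} (h : x * ρ * x⁻¹ ∈ H) : ∀ a ∈ zpowers ρ, x * a * x⁻¹ ∈ H := by
  rintro _ ⟨i, rfl⟩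
  beta_reduce
  rw [← conj_zpow]
  exact zpow_mem h i

theorem x_cm : x * a = a * x ↔ x * a * x⁻¹ = a := by rw [mul_inv_eq_iff_eq_mul]

theorem x_mC : x ∈ centralizer ({a} : Set X) ↔ x * a = a * x := mem_centralizer_singleton_iff

theorem x_cj (h : a * b = b * a) (k : X) :
    k * a * k⁻¹ * (k * b * k⁻¹) = k * b * k⁻¹ * (k * a * k⁻¹) := by rw [conj_mul, conj_mul, h]

theorem x_p2 (h : x * x = 1) (i : ℕ) : x ^ 2 ^ (i + 1) = 1 := by rw [pow_succ', pow_mul, sq, h, one_pow]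

namespace NF

variable (n : NF S t u w c ρ m)
include n

theorem x_wr : w * ρ * w⁻¹ ∈ zpowers ρ := by
  rw [show w * ρ * w⁻¹ = ρ * (ρ⁻¹ * w * ρ⁻¹⁻¹) * w⁻¹ by group]
  rcases n.nw _ (inv_mem n.rS) with e | e <;> rw [e]
  · simp
  · rw [n.uc w n.wS, mul_assoc, mul_inv_cancel_right]; exact mul_mem (mem_zpowers ρ) n.uz

/-- the subgroup `C` -/
def CC : Subgroup X := ext2 (zpowers ρ) w (x_zp n.x_wr) (n.w2 ▸ one_mem _)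

omit n in
theorem eqns_H : True := by
  have := @CC.eq_1.{0}
  trivial

theorem mem_CC : x ∈ n.CC ↔ ∃ i : ℤ, x = ρ ^ i ∨ x = ρ ^ i * w :=
  ⟨fun h => h.elim (fun ⟨i, e⟩ => ⟨i, .inl e.symm⟩) fun ⟨i, e⟩ => ⟨i, .inr (mul_inv_eq_iff_eq_mul.1 e.symm)⟩,
    fun ⟨i, e⟩ => e.elim (fun e => .inl ⟨i, e.symm⟩) fun e => .inr ⟨i, by simp [e]⟩⟩

theorem rC (h : x ∈ zpowers ρ) : x ∈ n.CC := .inl h

theorem ρC : ρ ∈ n.CC := n.rC (mem_zpowers ρ)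

theorem wC : w ∈ n.CC := n.mem_CC.2 ⟨0, by simp⟩

theorem UC (h : InU u w x) : x ∈ n.CC := by
  rcases h with e | e | e | e <;> rw [e]
  exacts [one_mem _, n.rC n.uz, n.wC, mul_mem n.wC (n.rC n.uz)]

theorem CS (h : x ∈ n.CC) : x ∈ S := by
  obtain ⟨i, rfl | rfl⟩ := n.mem_CC.1 h
  exacts [zpow_mem n.rS i, mul_mem (zpow_mem n.rS i) n.wS]

theorem tC : t ∉ n.CC := fun h => by
  obtain ⟨i, e | e⟩ := n.mem_CC.1 h
  exacts [(n.t_ne i).1 e, (n.t_ne i).2 e]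

theorem decC (h : x ∈ S) (h' : x ∉ n.CC) : ∃ κ ∈ n.CC, x = κ * t := by
  obtain ⟨i, e | e | e | e⟩ := n.dec x h
  exacts [absurd (n.mem_CC.2 ⟨i, .inl e⟩) h', absurd (n.mem_CC.2 ⟨i, .inr e⟩) h',
    ⟨_, n.mem_CC.2 ⟨i, .inl rfl⟩, e⟩, ⟨_, n.mem_CC.2 ⟨i, .inr rfl⟩, e⟩]

theorem ktC (h : x ∈ n.CC) : x * t ∉ n.CC := fun e => n.tC ((mul_mem_cancel_left h).1 e)

theorem t_C (h : x ∈ n.CC) : t * x * t⁻¹ ∈ n.CC := by
  have h1 := x_zp (n.mem_CC.2 n.norm_t)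
  obtain ⟨i, rfl | rfl⟩ := n.mem_CC.1 h
  · exact h1 _ ⟨i, rfl⟩
  · rw [← conj_mul, n.tw]; exact mul_mem (h1 _ ⟨i, rfl⟩) (mul_mem n.wC (n.rC n.uz))

theorem outC (ha : a ∈ S) (ha' : a ∉ n.CC) (hb : b ∈ S) (hb' : b ∉ n.CC) : a * b ∈ n.CC := by
  obtain ⟨κ, h1, rfl⟩ := n.decC ha ha'
  obtain ⟨μ, h2, rfl⟩ := n.decC hb hb'
  rw [show κ * t * (μ * t) = κ * (t * μ * t⁻¹) * (t * t) by group, n.t2, mul_one]
  exact mul_mem h1 (n.t_C h2)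

theorem sqS (h : x ∈ S) : x * x ∈ n.CC := by
  by_cases e : x ∈ n.CC
  exacts [mul_mem e e, n.outC h e h e]

theorem uR : u ∈ zpowers (ρ * ρ) := by
  have := n.m2
  rw [← n.ru, show m - 1 = m - 2 + 1 by omega, pow_succ', pow_mul, sq]
  exact pow_mem (mem_zpowers _) _

omit n in
theorem evR (i : ℤ) : ρ ^ (2 * i) ∈ zpowers (ρ * ρ) := ⟨i, by rw [zpow_mul, zpow_two]⟩

omit n in
theorem Rr (h : x ∈ zpowers (ρ * ρ)) : x ∈ zpowers ρ :=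
  zpowers_le.2 (mul_mem (mem_zpowers ρ) (mem_zpowers ρ)) h

theorem sqR (h : x ∈ n.CC) : x * x ∈ zpowers (ρ * ρ) := by
  obtain ⟨i, rfl | rfl⟩ := n.mem_CC.1 h
  · rw [← zpow_add, ← two_mul]; exact evR i
  · rcases n.sq_rw i with e | ⟨e, -⟩ <;> rw [e]
    exacts [evR i, mul_mem (evR i) n.uR]

theorem invU (h : x ∈ n.CC) (h2 : x * x = 1) : InU u w x := by
  obtain ⟨i, e⟩ := n.mem_CC.1 h
  exact n.invC e h2

theorem cj_inv (h2 : x * x = 1) (h1 : x ≠ 1) (h : k * x * k⁻¹ ∈ zpowers ρ) : k * x * k⁻¹ = u :=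
  (n.inv_zp h (by rw [conj_mul, h2]; simp)).resolve_left fun e => h1 (conj_eq_one_iff.1 e)

theorem cj_u (h : k * u * k⁻¹ ∈ zpowers ρ) : k * u * k⁻¹ = u := n.cj_inv n.u2 n.u1 h

theorem yC (h : x ∈ n.CC) : x * ρ ^ 2 ^ (m - 2) = ρ ^ 2 ^ (m - 2) * x := by
  obtain ⟨i, rfl | rfl⟩ := n.mem_CC.1 h
  · exact ((Commute.refl ρ).zpow_left i).pow_right _
  · exact ((((Commute.refl ρ).zpow_left i).pow_right _).mul_left n.y_w.symm)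

theorem y_ne : ρ ^ 2 ^ (m - 2) ≠ (ρ ^ 2 ^ (m - 2))⁻¹ := fun e =>
  n.u1 (by rw [n.yinv] at e; exact mul_eq_left.1 e.symm)

theorem cjw (hx : x ∈ S) (h : x * w ≠ w * x) : x * w * x⁻¹ = w * u :=
  (n.nw x hx).resolve_left fun e => h (x_cm.2 e)

theorem flip (ha : a ∈ S) (h : a * w * a⁻¹ = w * u) (h' : b * w * b⁻¹ = w * u) : a * b * w = w * (a * b) :=
  x_cm.2 (by rw [show a * b * w * (a * b)⁻¹ = a * (b * w * b⁻¹) * a⁻¹ by group, h', n.cj_wu ha, h,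
    mul_assoc, n.u2, mul_one])

theorem odd_w (hα : ρ * w ≠ w * ρ) (l : ℤ) : ρ ^ (2 * l + 1) * w * (ρ ^ (2 * l + 1))⁻¹ = w * u := by
  rw [zpow_add_one, show ρ ^ (2 * l) * ρ * w * (ρ ^ (2 * l) * ρ)⁻¹ = ρ ^ (2 * l) * (ρ * w * ρ⁻¹) * (ρ ^ (2 * l))⁻¹
    by group, n.alpha hα, n.cj_wu (zpow_mem n.rS _), x_cm.1 (n.even_w l)]

end NF

namespace Sit

variable [Finite X] (h : Sit A S t) (n : NF S t u w c ρ m)
include h n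

theorem uA : u ∈ A := n.c2 ▸ h.sqA c

theorem UA (hw : w ∈ A) (e : InU u w x) : x ∈ A := by
  rcases e with e | e | e | e <;> rw [e]
  exacts [one_mem _, h.uA n, hw, mul_mem hw (h.uA n)]

omit n in
theorem evA (hρ : ρ ∉ A) {i : ℤ} (e : ρ ^ i ∈ A) : ∃ l, i = 2 * l := by
  obtain ⟨l, rfl | rfl⟩ := Int.even_or_odd' i
  · exact ⟨l, rfl⟩
  · rw [zpow_add_one, zpow_mul, zpow_two] at e
    exact absurd ((mul_mem_cancel_left (zpow_mem (h.sqA ρ) l)).1 e) hρ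

omit n in
theorem odA {i : ℤ} (e : ρ ^ i ∉ A) : ∃ l, i = 2 * l + 1 := by
  obtain ⟨l, rfl | rfl⟩ := Int.even_or_odd' i
  · rw [zpow_mul, zpow_two] at e
    exact absurd (zpow_mem (h.sqA ρ) l) e
  · exact ⟨l, rfl⟩

theorem su (hρ : ρ ∈ A) : ∃ s ∈ S, s ∈ A ∧ s * s = 1 ∧ s ∉ zpowers ρ ∧ ∃ g ∈ A, g * s * g⁻¹ = u := by
  obtain ⟨s, h1, h2, h3, h4⟩ : ∃ s ∈ S, s ∈ A ∧ s * s = 1 ∧ s ∉ zpowers ρ := by
    obtain ⟨a, b, aS, aA, bS, bA, a2, b2, -, a1, b1, ab⟩ := h.four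
    by_contra! e
    exact ab (((n.inv_zp (e a aS aA a2) a2).resolve_left a1).trans
      ((n.inv_zp (e b bS bA b2) b2).resolve_left b1).symm)
  have r : ∀ i : ℤ, ρ ^ i ∈ A := zpow_mem hρ
  have z : ∀ (i j : ℤ) (x : X), ρ ^ i * x * (ρ ^ j * x)⁻¹ ∈ zpowers ρ := fun i j x => ⟨i - j, by group⟩
  have f : ∀ a ∈ S, a ∈ A → a ∉ zpowers ρ → ∃ i : ℤ, (a = ρ ^ i * w ∧ w ∈ A) ∨ (a = ρ ^ i * (w * t) ∧ w ∉ A) :=
    fun a aS aA e => by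
    obtain ⟨i, rfl | rfl | rfl | rfl⟩ := n.dec a aS
    · exact absurd ⟨i, rfl⟩ e
    · exact ⟨i, .inl ⟨rfl, (mul_mem_cancel_left (r i)).1 aA⟩⟩
    · exact absurd ((mul_mem_cancel_left (r i)).1 aA) h.tA
    · exact ⟨i, .inr ⟨mul_assoc _ _ _, fun e => h.tA ((mul_mem_cancel_left (mul_mem (r i) e)).1 aA)⟩⟩
  obtain ⟨g, hg, -, e⟩ := h.trA (M := zpowers ρ) (x0 := s) (fun a aS aA => or_iff_not_imp_left.2 fun e => by
    obtain ⟨i, ⟨rfl, p⟩ | ⟨rfl, p⟩⟩ := f a aS aA e <;> obtain ⟨j, ⟨rfl, q⟩ | ⟨rfl, q⟩⟩ := f s h1 h2 h4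
    exacts [z _ _ _, absurd p q, absurd q p, z _ _ _]) h1 h2 fun g _ i _ => by rw [x_p2 h3]; simp
  exact ⟨s, h1, h2, h3, h4, g, hg, n.cj_inv h3 (fun e => h4 (e ▸ one_mem _)) e⟩

end Sit

end H44.C4
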