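import Cfsg.Agent.Lib.C4.Str
import Cfsg.Agent.Lib.C4.CA
import Cfsg.Agent.Lib.C4.CK
import Cfsg.Agent.Lib.C4.CB

/-! S1914 (project C4): assembly. -/

set_option autoImplicit false

namespace H44.C4
open Subgroup

theorem Sit.false {X : Type*} [Group X] [Finite X] {A S : Subgroup X} {t : X} (h : Sit A S t) {y : X}
    (hyS : y ∈ S) (hyA : y ∈ A) (hy : orderOf y = 4) (hyt : y * t = t * y)
    (hc : ∀ x ∈ S, x ∈ A → x * t = t * x → x ∈ zpowers y) : False := by
  obtain ⟨u, w, c, ρ, m, n⟩ := h.exists_nf hyS hyA hy hyt hc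
  by_cases hα : ρ * w = w * ρ
  · exact h.caseA n hα
  by_cases hρ : ρ ∈ A
  · exact h.caseK n hα hρ
  by_cases hw : w ∈ A
  · exact h.caseB n hα hρ hw
  · refine h.caseK n.regen2 (fun e => hα ?_) (h.mulA.2 (iff_of_false hρ hw))
    rw [← mul_assoc] at e
    exact mul_right_cancel e

variable {G : Type*} [Group G] [Finite G]

omit [Finite G] in
theorem isP_pair {a b : G} (hab : a * b = b * a) {k : ℕ} (ha : a ^ 2 ^ k = 1) (hb : b ^ 2 ^ k = 1) :
    IsPGroup 2 (closure ({a, b} : Set G)) := by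
  have hc : Commute a b := hab
  have key : ∀ x ∈ closure ({a, b} : Set G), ∃ i j : ℤ, x = a ^ i * b ^ j := by
    intro x hx
    induction hx using closure_induction with
    | mem x hx =>
      rcases hx with rfl | rfl
      exacts [⟨1, 0, by simp⟩, ⟨0, 1, by simp⟩]
    | one => exact ⟨0, 0, by simp⟩
    | mul x y _ _ hx hy =>
      obtain ⟨i, j, rfl⟩ := hx
      obtain ⟨i', j', rfl⟩ := hy
      exact ⟨i + i', j + j', by
        rw [zpow_add, zpow_add, mul_assoc, mul_assoc, ← mul_assoc (b ^ j), ← (hc.zpow_zpow i' j).eq, mul_assoc]⟩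
    | inv x _ hx =>
      obtain ⟨i, j, rfl⟩ := hx
      exact ⟨-i, -j, by rw [mul_inv_rev, ← zpow_neg, ← zpow_neg, (hc.zpow_zpow (-i) (-j)).eq]⟩
  rintro ⟨x, hx⟩
  obtain ⟨i, j, rfl⟩ := key x hx
  refine ⟨k, Subtype.ext ?_⟩
  have e : ∀ (z : G) (l : ℤ), z ^ 2 ^ k = 1 → (z ^ l) ^ 2 ^ k = 1 := fun z l hz => by
    rw [← zpow_natCast, ← zpow_mul, mul_comm, zpow_mul, zpow_natCast, hz, one_zpow]
  change (a ^ i * b ^ j) ^ 2 ^ k = 1
  rw [(hc.zpow_zpow i j).mul_pow, e a i ha, e b j hb, one_mul]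

/-- Two commuting 2-elements are conjugate into a given Sylow 2-subgroup. -/
theorem conj_pair (S : Sylow 2 G) {a b : G} (hab : a * b = b * a) (ha : a * a = 1) (hb : b * b = 1) :
    ∃ g : G, g * a * g⁻¹ ∈ (S : Subgroup G) ∧ g * b * g⁻¹ ∈ (S : Subgroup G) := by
  have : Fact (Nat.Prime 2) := ⟨Nat.prime_two⟩
  obtain ⟨Q, hQ⟩ := (isP_pair hab (k := 1) (by rw [pow_one, pow_two, ha]) (by rw [pow_one, pow_two, hb])).exists_le_sylow
  obtain ⟨g, rfl⟩ := MulAction.exists_smul_eq G Q S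
  refine ⟨g, ?_, ?_⟩
  · exact smul_mem_pointwise_smul a (MulAut.conj g) _ (hQ (subset_closure (by simp)))
  · exact smul_mem_pointwise_smul b (MulAut.conj g) _ (hQ (subset_closure (by simp)))

theorem small {C : Subgroup G} (hC : ∀ R : Sylow 2 ↥C, IsCyclic R ∧ Nat.card R = 4) {T : Subgroup G}
    (hT : IsPGroup 2 T) (hTC : T ≤ C) : IsCyclic T ∧ Nat.card T ≤ 4 := by
  have : Fact (Nat.Prime 2) := ⟨Nat.prime_two⟩
  obtain ⟨R, hR⟩ := (hT.of_equiv (subgroupOfEquivOfLe hTC).symm).exists_le_sylow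
  obtain ⟨h1, h2⟩ := hC R
  have h3 : IsCyclic (T.subgroupOf C) := isCyclic_of_injective (inclusion hR) (inclusion_injective hR)
  refine ⟨isCyclic_of_surjective (subgroupOfEquivOfLe hTC) (subgroupOfEquivOfLe hTC).surjective, ?_⟩
  rw [← Nat.card_congr (subgroupOfEquivOfLe hTC).toEquiv, ← h2]
  exact card_le_of_le hR

theorem cyc_inv {T : Subgroup G} (hT : IsCyclic T) {a b : G} (ha : a ∈ T) (hb : b ∈ T) (ha2 : a * a = 1)
    (hb2 : b * b = 1) : a = 1 ∨ b = 1 ∨ a = b := by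
  classical
  by_contra hn
  push Not at hn
  have := Fintype.ofFinite T
  have h1 := IsCyclic.card_pow_eq_one_le (α := T) (n := 2) two_pos
  have h2 : ({1, ⟨a, ha⟩, ⟨b, hb⟩} : Finset T) ⊆ Finset.univ.filter fun x : T => x ^ 2 = 1 := by
    intro x hx
    simp only [Finset.mem_insert, Finset.mem_singleton] at hx
    rcases hx with rfl | rfl | rfl <;> simp only [Finset.mem_filter, Finset.mem_univ, true_and]
    · exact one_pow 2
    · exact Subtype.ext (by rw [pow_two]; exact ha2)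
    · exact Subtype.ext (by rw [pow_two]; exact hb2)
  have h3 := Finset.card_le_card h2
  rw [Finset.card_eq_three.2 ⟨_, _, _, fun e => hn.1 (congrArg Subtype.val e).symm,
    fun e => hn.2.1 (congrArg Subtype.val e).symm, fun e => hn.2.2 (congrArg Subtype.val e), rfl⟩] at h3
  omega

theorem main {A : Subgroup G} (hA : ⁅A, A⁆ = A) {t : G} (ht : orderOf t = 2) (htA : t ∈ normalizer (A : Set G))
    (hC : ∀ R : Sylow 2 ↥(A ⊓ centralizer ({t} : Set G)), IsCyclic R ∧ Nat.card R = 4)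
    {a b : G} (ha : a ∈ A) (hb : b ∈ A) (ha2 : a * a = 1) (hb2 : b * b = 1) (hab : a * b = b * a) :
    a = 1 ∨ b = 1 ∨ a = b := by
  have : Fact (Nat.Prime 2) := ⟨Nat.prime_two⟩
  have t2 : t * t = 1 := by rw [← pow_two, ← ht, pow_orderOf_eq_one]
  have t1 : t ≠ 1 := fun e => by rw [e, orderOf_one] at ht; omega
  have no4 : ∀ a b : G, a ∈ A → b ∈ A → a * a = 1 → b * b = 1 → a * b = b * a → a * t = t * a → b * t = t * b →
      a = 1 ∨ b = 1 ∨ a = b := fun a b ha hb ha2 hb2 hab h1 h2 =>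
    cyc_inv (small hC (isP_pair hab (k := 1) (by rw [pow_one, pow_two, ha2]) (by rw [pow_one, pow_two, hb2]))
      ((closure_le _).2 (by
        rintro x (rfl | rfl)
        exacts [⟨ha, mem_centralizer_singleton_iff.2 h1⟩, ⟨hb, mem_centralizer_singleton_iff.2 h2⟩]))).1
      (subset_closure (by simp)) (subset_closure (by simp)) ha2 hb2
  have back : ∀ {Y : Type _} [Group Y] {g a b : Y}, g * a * g⁻¹ = 1 ∨ g * b * g⁻¹ = 1 ∨ g * a * g⁻¹ = g * b * g⁻¹ →
      a = 1 ∨ b = 1 ∨ a = b := fun h => by simpa using h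
  by_cases hin : t ∈ A
  · obtain ⟨Q, hQ⟩ := (isP_pair (a := (⟨t, hin⟩ : A)) (b := ⟨t, hin⟩) rfl (k := 1)
      (Subtype.ext (by rw [pow_one, pow_two]; exact t2)) (Subtype.ext (by rw [pow_one, pow_two]; exact t2))).exists_le_sylow
    have tQ : (⟨t, hin⟩ : A) ∈ (Q : Subgroup A) := hQ (subset_closure (by simp))
    have : Nontrivial (Q : Subgroup A) := ⟨⟨⟨_, tQ⟩, 1, fun e => t1 (congrArg (fun x : Q => ((x : A) : G)) e)⟩⟩
    have := Q.isPGroup'.center_nontrivial
    obtain ⟨z, hz⟩ := exists_prime_orderOf_dvd_card' (G := center (Q : Subgroup A)) 2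
      ((Q.isPGroup'.to_subgroup _).nontrivial_iff_card.1 inferInstance |>.elim fun k hk => hk.2 ▸ dvd_pow_self 2 hk.1.ne')
    have z2 : (((z : Q) : A) : G) * ((z : Q) : A) = 1 := by
      have := pow_orderOf_eq_one z
      rw [hz, pow_two] at this
      exact congrArg (fun x : center (Q : Subgroup A) => (((x : Q) : A) : G)) this
    have z1 : (((z : Q) : A) : G) ≠ 1 := fun e => by
      have : z = 1 := Subtype.ext (Subtype.ext (Subtype.ext e))
      rw [this, orderOf_one] at hz; omega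
    have zc : ∀ q ∈ (Q : Subgroup A), (q : G) * ((z : Q) : A) = ((z : Q) : A) * q := fun q hq =>
      congrArg (fun x : Q => ((x : A) : G)) (mem_center_iff.1 z.2 ⟨q, hq⟩)
    have zt : (((z : Q) : A) : G) = t :=
      ((no4 _ t ((z : Q) : A).2 hin z2 t2 (zc _ tQ).symm (zc _ tQ).symm rfl).resolve_left z1).resolve_left t1
    obtain ⟨g, h1, h2⟩ := conj_pair Q (a := ⟨a, ha⟩) (b := ⟨b, hb⟩) (Subtype.ext hab) (Subtype.ext ha2) (Subtype.ext hb2)
    refine back (g := (g : G)) (no4 _ _ (g * ⟨a, ha⟩ * g⁻¹).2 (g * ⟨b, hb⟩ * g⁻¹).2 ?_ ?_ ?_ (zt ▸ zc _ h1) (zt ▸ zc _ h2))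
    · rw [conj_mul, ha2]; group
    · rw [conj_mul, hb2]; group
    · rw [conj_mul, conj_mul, hab]
  by_contra hn
  push Not at hn
  let X : Subgroup G := ext2 A t (fun h hh => (mem_normalizer_iff.1 htA h).1 hh) (by rw [t2]; exact one_mem _)
  have AX : A ≤ X := fun x hx => .inl hx
  have tX : t ∈ X := .inr (by rw [mul_inv_cancel]; exact one_mem _)
  have nA : ∀ g ∈ X, ∀ a ∈ A, g * a * g⁻¹ ∈ A := by
    rintro g (hg | hg) a ha
    · exact mul_mem (mul_mem hg ha) (inv_mem hg)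
    · have := mul_mem (mul_mem hg ((mem_normalizer_iff.1 htA a).1 ha)) (inv_mem hg)
      convert this using 1; group
  obtain ⟨R⟩ : Nonempty (Sylow 2 ↥(A ⊓ centralizer ({t} : Set G))) := inferInstance
  obtain ⟨hR, hR4⟩ := hC R
  obtain ⟨y0, hy0⟩ := hR.exists_ofOrder_eq_natCard
  have hy : orderOf ((y0 : ↥(A ⊓ centralizer ({t} : Set G))) : G) = 4 := by
    rw [orderOf_coe, orderOf_coe, hy0, hR4]
  obtain ⟨yA, yt⟩ := (y0 : ↥(A ⊓ centralizer ({t} : Set G))).2
  generalize ((y0 : ↥(A ⊓ centralizer ({t} : Set G))) : G) = y at hy yA yt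
  have yt' : y * t = t * y := mem_centralizer_singleton_iff.1 yt
  obtain ⟨S, hS⟩ := (isP_pair (a := (⟨y, AX yA⟩ : X)) (b := ⟨t, tX⟩) (Subtype.ext yt') (k := 2)
    (Subtype.ext (by change y ^ 4 = 1; rw [← hy, pow_orderOf_eq_one]))
    (Subtype.ext (by change t ^ (2 * 2) = 1; rw [pow_mul, pow_two t, t2, one_pow]))).exists_le_sylow
  have yS : (⟨y, AX yA⟩ : X) ∈ (S : Subgroup X) := hS (subset_closure (by simp))
  have h : Sit (A.subgroupOf X) (S : Subgroup X) ⟨t, tX⟩ :=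
    { idx := by
        refine index_eq_two_iff.2 ⟨⟨t, tX⟩⁻¹, fun x => ?_⟩
        simp only [mem_subgroupOf, coe_mul, coe_inv]
        rcases x.2 with hx | hx
        · exact .inr ⟨hx, fun e => hin (by simpa using (mul_mem_cancel_left hx).1 e)⟩
        · exact .inl ⟨hx, fun e => hin (by simpa using (mul_mem_cancel_left e).1 hx)⟩
      perf := by
        apply map_injective X.subtype_injective
        rw [map_commutator, subgroupOf_map_subtype, inf_eq_left.2 AX, hA]
      isP := S.isPGroup'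
      odd := Nat.odd_iff.2 (Nat.two_dvd_ne_zero.1 S.not_dvd_index)
      tS := hS (subset_closure (by simp))
      tA := hin
      t2 := Subtype.ext t2
      four := by
        obtain ⟨g, h1, h2⟩ := conj_pair S (a := ⟨a, AX ha⟩) (b := ⟨b, AX hb⟩) (Subtype.ext hab) (Subtype.ext ha2)
          (Subtype.ext hb2)
        refine ⟨_, _, h1, nA g g.2 a ha, h2, nA g g.2 b hb, ?_, ?_, ?_, fun e => hn.1 ?_, fun e => hn.2.1 ?_,
          fun e => hn.2.2 ?_⟩
        · rw [conj_mul, show (⟨a, AX ha⟩ * ⟨a, AX ha⟩ : X) = 1 from Subtype.ext ha2]; group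
        · rw [conj_mul, show (⟨b, AX hb⟩ * ⟨b, AX hb⟩ : X) = 1 from Subtype.ext hb2]; group
        · rw [conj_mul, conj_mul, show (⟨a, AX ha⟩ * ⟨b, AX hb⟩ : X) = ⟨b, AX hb⟩ * ⟨a, AX ha⟩ from Subtype.ext hab]
        · simpa using e
        · simpa using e
        · simpa using e
      no4 := fun g a b ha hb ha2 hb2 hab h1 h2 => by
        have key : ∀ x : X, x * (g * ⟨t, tX⟩ * g⁻¹) = g * ⟨t, tX⟩ * g⁻¹ * x →
            (g : G)⁻¹ * x * (g : G)⁻¹⁻¹ * t = t * ((g : G)⁻¹ * x * (g : G)⁻¹⁻¹) := fun x e => by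
          have e1 : (x : G) * (g * t * (g : G)⁻¹) = g * t * (g : G)⁻¹ * x := congrArg Subtype.val e
          calc (g : G)⁻¹ * x * (g : G)⁻¹⁻¹ * t = (g : G)⁻¹ * (x * (g * t * (g : G)⁻¹)) * g := by group
            _ = _ := by rw [e1]; group
        have h3 := back (no4 _ _ (nA _ (inv_mem g.2) a ha) (nA _ (inv_mem g.2) b hb)
          (by rw [conj_mul, show (a : G) * a = 1 from congrArg Subtype.val ha2]; group)
          (by rw [conj_mul, show (b : G) * b = 1 from congrArg Subtype.val hb2]; group)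
          (by rw [conj_mul, conj_mul, show (a : G) * b = b * a from congrArg Subtype.val hab]) (key a h1) (key b h2))
        exact h3.imp Subtype.ext (Or.imp Subtype.ext Subtype.ext) }
  refine h.false yS yA (by rw [← orderOf_coe]; exact hy) (Subtype.ext yt') fun x xS xA xt => ?_
  let T : Subgroup G := (S : Subgroup X).map X.subtype ⊓ (A ⊓ centralizer ({t} : Set G))
  have hT := (small hC (T := T) ((S.isPGroup'.map _).to_le inf_le_left) inf_le_right).2
  have yT : zpowers y ≤ T := zpowers_le.2 ⟨⟨_, yS, rfl⟩, yA, yt⟩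
  have e : zpowers y = T := eq_of_le_of_card_ge yT (by rw [Nat.card_zpowers, hy]; exact hT)
  have xT : (x : G) ∈ T := ⟨⟨_, xS, rfl⟩, xA, mem_centralizer_singleton_iff.2 (congrArg Subtype.val xt)⟩
  obtain ⟨k, hk⟩ := mem_zpowers_iff.1 (e ▸ xT)
  exact mem_zpowers_iff.2 ⟨k, Subtype.ext hk⟩

end H44.C4
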