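import Cfsg.Agent.Lib.C4.Basic
import Cfsg.Agent.Lib.PGroup.TwoCyclic
import Cfsg.Agent.S3224

/-! S1914 (project C4), package Str: the normal form of the Sylow 2-subgroup (helper84). -/

set_option autoImplicit false

namespace H44.C4.Str
open Subgroup
open scoped commutatorElement

variable {Q : Type*} [Group Q]

theorem zp2 {u x : Q} (u2 : u * u = 1) (hx : x ∈ zpowers u) : x = 1 ∨ x = u := by
  obtain ⟨i, rfl⟩ := mem_zpowers_iff.1 hx
  rcases Int.even_or_odd' i with ⟨l, rfl | rfl⟩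
  · left; rw [zpow_mul, zpow_two, u2, one_zpow]
  · right; rw [zpow_add, zpow_mul, zpow_two, u2, one_zpow, one_mul, zpow_one]

theorem zp4 {y x : Q} (y4 : y * y * (y * y) = 1) (hx : x ∈ zpowers y) :
    x = 1 ∨ x = y ∨ x = y * y ∨ x = y * (y * y) := by
  obtain ⟨i, rfl⟩ := mem_zpowers_iff.1 hx
  rcases Int.even_or_odd' i with ⟨l, rfl | rfl⟩
  · rw [zpow_mul, zpow_two]
    rcases zp2 y4 (zpow_mem (mem_zpowers _) l) with e | e
    exacts [.inl e, .inr (.inr (.inl e))]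
  · rw [add_comm, zpow_add, zpow_mul, zpow_two, zpow_one]
    rcases zp2 y4 (zpow_mem (mem_zpowers _) l) with e | e <;> rw [e]
    exacts [.inr (.inl (mul_one _)), .inr (.inr (.inr rfl))]

theorem comm_zp {a b x : Q} (h : a * b = b * a) (hx : x ∈ zpowers a) : x * b = b * x := by
  obtain ⟨i, rfl⟩ := mem_zpowers_iff.1 hx
  exact (Commute.zpow_left h i).eq

/-- An abelian 2-group with at most one involution is cyclic. -/
theorem cyc_of_ker {M : Type*} [CommGroup M] [Finite M] (hM : IsPGroup 2 M)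
    (h2 : Nat.card (powMonoidHom 2 : M →* M).ker ≤ 2) : IsCyclic M := by
  classical
  have := Fintype.ofFinite M
  refine isCyclic_of_card_pow_eq_one_le fun k hk => ?_
  have key : ∀ j : ℕ, Nat.card (powMonoidHom (2 ^ j) : M →* M).ker ≤ 2 ^ j := by
    intro j
    induction j with
    | zero =>
      have : (powMonoidHom (2 ^ 0) : M →* M).ker = ⊥ := by ext x; simp
      rw [this]; simp
    | succ j ih =>
      let f : M →* M := powMonoidHom 2
      let K : Subgroup M := (powMonoidHom (2 ^ (j + 1)) : M →* M).ker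
      let K' : Subgroup M := (powMonoidHom (2 ^ j) : M →* M).ker
      have h3 : K.map f ≤ K' := by
        rintro _ ⟨x, hx, rfl⟩
        simpa [K, K', f, pow_succ', pow_mul] using hx
      have h4 : Nat.card K = Nat.card (f.ker.subgroupOf K) * Nat.card (K.map f) := by
        rw [← relIndex_ker, relIndex, card_mul_index]
      have h5 : Nat.card (f.ker.subgroupOf K) ≤ Nat.card f.ker := by
        rw [← card_map_of_injective K.subtype_injective, subgroupOf_map_subtype]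
        exact card_le_of_le inf_le_left
      change Nat.card K ≤ _
      rw [h4, pow_succ']
      exact Nat.mul_le_mul (h5.trans h2) ((card_le_of_le h3).trans ih)
  obtain ⟨e, he⟩ := IsPGroup.iff_card.1 hM
  obtain ⟨j, -, hj⟩ := (Nat.dvd_prime_pow Nat.prime_two).1 (he ▸ Nat.gcd_dvd_right k (Nat.card M))
  have h5 : (Finset.univ.filter fun a : M => a ^ k = 1).card
      = Nat.card (powMonoidHom (2 ^ j) : M →* M).ker := by
    rw [Nat.card_eq_fintype_card, Fintype.card_subtype]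
    congr 1
    ext x
    simp only [Finset.mem_filter, Finset.mem_univ, true_and, MonoidHom.mem_ker,
      powMonoidHom_apply]
    rw [← he] at hj
    rw [← hj, pow_gcd_eq_one]
    simp
  rw [h5]
  rw [← he] at hj
  exact (key j).trans (hj ▸ Nat.le_of_dvd hk (Nat.gcd_dvd_left _ _))

/-- A cyclic subgroup of index two, or an involution that is central modulo `u`. -/
theorem step1 [Finite Q] (hQ : IsPGroup 2 Q) {u : Q} (u2 : u * u = 1) :
    IsCyclic Q ∨ (∃ (a : Q) (m : ℕ), orderOf a = 2 ^ (m + 1) ∧ (zpowers a).index = 2) ∨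
      ∃ w : Q, w * w = 1 ∧ w ≠ 1 ∧ w ≠ u ∧ ∀ g, g * w * g⁻¹ = w ∨ g * w * g⁻¹ = w * u := by
  by_cases hn : ∀ A : Subgroup Q, A.Normal → IsMulCommutative A → IsCyclic A
  · rcases H5.exists_of_normal_abelian_cyclic hQ hn with h | ⟨a, -, m, h1, h2, -⟩
    exacts [.inl h, .inr (.inl ⟨a, m, h1, h2⟩)]
  push Not at hn
  obtain ⟨A, hAn, hAc, hAnc⟩ := hn
  letI : CommGroup A := { (inferInstance : Group A) with mul_comm := hAc.is_comm.comm }
  let O : Subgroup Q := (powMonoidHom 2 : A →* A).ker.map A.subtype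
  have hO : ∀ x, x ∈ O ↔ x ∈ A ∧ x ^ 2 = 1 := by
    intro x
    constructor
    · rintro ⟨x, hx, rfl⟩
      exact ⟨x.2, congrArg Subtype.val (show x ^ 2 = 1 from hx)⟩
    · rintro ⟨h1, h2⟩
      exact ⟨⟨x, h1⟩, Subtype.ext h2, rfl⟩
  haveI : O.Normal := ⟨fun x hx g => by
    rw [hO] at hx ⊢
    exact ⟨hAn.conj_mem x hx.1 g, by rw [conj_pow, hx.2]; simp⟩⟩
  obtain ⟨w, h1, h2, -, h3⟩ := H5.exists_step hQ (zpowers u) O fun h => hAnc (by
    refine cyc_of_ker (hQ.to_subgroup A) ?_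
    rw [← card_map_of_injective A.subtype_injective]
    refine (card_le_of_le h).trans ?_
    rw [Nat.card_zpowers]
    exact Nat.le_of_dvd two_pos (orderOf_dvd_of_pow_eq_one (by rw [pow_two, u2])))
  have w2 : w * w = 1 := by rw [← pow_two]; exact ((hO w).1 h1).2
  refine .inr (.inr ⟨w, w2, fun e => h2 (e ▸ one_mem _), fun e => h2 (e ▸ mem_zpowers _), fun g => ?_⟩)
  have e0 : g * w * g⁻¹ = w * ⁅w, g⁆ := by
    rw [commutatorElement_def, inv_eq_of_mul_eq_one_right w2, ← mul_assoc, ← mul_assoc, ← mul_assoc, w2,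
      one_mul]
  rcases zp2 u2 (h3 g) with e | e <;> rw [e0, e]
  exacts [.inl (mul_one _), .inr rfl]

/-- A 2-group with a centraliser of order at most four. -/
theorem cyc2 [Finite Q] (hQ : IsPGroup 2 Q) (x : Q) (hC : Nat.card (centralizer ({x} : Set Q)) ≤ 4) :
    (∀ a, a * x = x * a) ∨ ∃ (a : Q) (k : ℕ), orderOf a = 2 ^ (k + 1 + 1) ∧ (zpowers a).index = 2 := by
  obtain ⟨n, hn⟩ := IsPGroup.iff_card.1 hQ
  rcases n with _ | _ | _ | k
  · have := (Nat.card_eq_one_iff_unique.1 hn).1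
    exact .inl fun a => Subsingleton.elim _ _
  · have := isCyclic_of_prime_card (p := 2) hn
    exact .inl fun a => mul_comm' a x
  · exact .inl fun a => (IsPGroup.isMulCommutative_of_card_eq_prime_sq (p := 2) hn).is_comm.comm a x
  have hc := H5.nilpotencyClass_eq_of_card_centralizer_le (k + 1) Q hn x hC
  have := hQ.isNilpotent
  obtain ⟨h1, h2⟩ := H5.index_commutator_of_maxClass hn hc
  obtain ⟨a, b, m, hm, ha, hi, -⟩ := H5.exists_gens_of_index_four hQ h1
    (fun x => by simpa [pow_two] using h2 x) (H5.commutator_ne_bot_of_class (by omega))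
  obtain ⟨m, rfl⟩ := Nat.exists_eq_add_of_le' hm
  exact .inr ⟨a, m, ha, hi⟩

/-- The normal form before the choice of `ρ`. -/
structure N0 (t u w c : Q) : Prop where
  t2 : t * t = 1
  w2 : w * w = 1
  u2 : u * u = 1
  u1 : u ≠ 1
  uc : ∀ x, x * u = u * x
  tw : t * w * t⁻¹ = w * u
  nw : ∀ x, x * w * x⁻¹ = w ∨ x * w * x⁻¹ = w * u
  ct : c * t = t * c
  cw : c * w = w * c
  c2 : c * c = u
  cen : ∀ x, x * t = t * x → x ∈ zpowers c ∨ x * t ∈ zpowers c

namespace N0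
variable {t u w c : Q} (n : N0 t u w c)
include n

theorem tw_ne : t * w ≠ w * t := fun e => n.u1 (mul_eq_left.1 (by rw [← n.tw, e]; group))

theorem cj_wu (x : Q) : x * (w * u) * x⁻¹ = x * w * x⁻¹ * u := by
  rw [mul_assoc (x * w), n.uc x⁻¹]; group

theorem sq_w (x : Q) : x * x * w = w * (x * x) := by
  have : x * (x * w * x⁻¹) * x⁻¹ = w := by
    rcases n.nw x with e | e
    · rw [e, e]
    · rw [e, n.cj_wu, e, mul_assoc, n.u2, mul_one]
  calc x * x * w = x * (x * w * x⁻¹) * x⁻¹ * (x * x) := by group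
    _ = w * (x * x) := by rw [this]

/-- The four-group. -/
def U : Subgroup Q := ext2 (zpowers u) w
  (fun h hh => by rw [← comm_zp (n.uc w).symm hh, mul_inv_cancel_right]; exact hh)
  (by rw [n.w2]; exact one_mem _)

theorem memU {v : Q} : v ∈ n.U ↔ v = 1 ∨ v = u ∨ v = w ∨ v = w * u := by
  constructor
  · rintro (h | h) <;> rcases zp2 n.u2 h with e | e
    exacts [.inl e, .inr (.inl e), .inr (.inr (.inl (mul_inv_eq_one.1 e))),
      .inr (.inr (.inr (by rw [n.uc]; exact eq_mul_of_mul_inv_eq e)))]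
  · rintro (e | e | e | e) <;> rw [e]
    exacts [one_mem _, .inl (mem_zpowers _), .inr (by rw [mul_inv_cancel]; exact one_mem _),
      .inr (by rw [n.uc, mul_inv_cancel_right]; exact mem_zpowers _)]

theorem uU : u ∈ n.U := n.memU.2 (.inr (.inl rfl))

theorem wU : w ∈ n.U := n.memU.2 (.inr (.inr (.inl rfl)))

instance normU : n.U.Normal := ⟨fun v hv g => by
  have k : g * w * g⁻¹ ∈ n.U := by
    rcases n.nw g with e | e <;> rw [e]
    exacts [n.wU, mul_mem n.wU n.uU]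
  rcases n.memU.1 hv with e | e | e | e <;> rw [e]
  · rw [mul_one, mul_inv_cancel]; exact one_mem _
  · rw [n.uc, mul_inv_cancel_right]; exact n.uU
  · exact k
  · rw [n.cj_wu]; exact mul_mem k n.uU⟩

theorem commU {x v : Q} (h : x * w = w * x) (hv : v ∈ n.U) : x * v = v * x := by
  rcases n.memU.1 hv with e | e | e | e <;> rw [e]
  · rw [mul_one, one_mul]
  · exact n.uc x
  · exact h
  · rw [← mul_assoc, h, mul_assoc, n.uc x, mul_assoc]

theorem sqU {v : Q} (hv : v ∈ n.U) : v * v = 1 := by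
  rcases n.memU.1 hv with e | e | e | e <;> rw [e]
  · exact one_mul 1
  · exact n.u2
  · exact n.w2
  · rw [mul_assoc, ← mul_assoc u, ← n.uc w, mul_assoc, n.u2, mul_one, n.w2]

/-- The projection. -/
abbrev π : Q →* Q ⧸ n.U := QuotientGroup.mk' _

theorem π_one {v : Q} : n.π v = 1 ↔ v ∈ n.U := QuotientGroup.eq_one_iff v

theorem π_eq {x z : Q} (h : n.π x = n.π z) : ∃ v ∈ n.U, x = z * v :=
  ⟨z⁻¹ * x, n.π_one.1 (by rw [map_mul, map_inv, h, inv_mul_cancel]), by group⟩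

theorem πt : n.π t * n.π t = 1 := by rw [← map_mul, n.t2, map_one]

theorem πc : n.π c * n.π c = 1 := by rw [← map_mul, n.c2]; exact n.π_one.2 n.uU

theorem cenπ {a : Q ⧸ n.U} (h : a * n.π t = n.π t * a) :
    a ∈ zpowers (n.π c) ∨ a * n.π t ∈ zpowers (n.π c) := by
  obtain ⟨x, rfl⟩ := QuotientGroup.mk'_surjective _ a
  have k : ∀ x, x * t = t * x → n.π x ∈ zpowers (n.π c) ∨ n.π x * n.π t ∈ zpowers (n.π c) := by
    intro x hx
    rw [← map_mul, ← MonoidHom.map_zpowers]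
    exact (n.cen x hx).imp (mem_map_of_mem _) (mem_map_of_mem _)
  obtain ⟨v, hv, e⟩ := n.π_eq (x := x * t * x⁻¹) (z := t) (by
    rw [map_mul, map_mul, map_inv]; exact mul_inv_eq_of_eq_mul h)
  have ti : t⁻¹ = t := inv_eq_of_mul_eq_one_right n.t2
  have e2 : t * v * t⁻¹ * v = 1 := by
    rw [ti, mul_assoc, ← e, conj_mul, n.t2]; group
  rcases n.memU.1 hv with f | f | f | f <;> rw [f] at e e2
  · exact k x (by rw [mul_one] at e; exact mul_inv_eq_iff_eq_mul.1 e)
  · have e3 : w * t = t * u * w := by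
      have := n.tw
      rw [ti] at this
      rw [mul_assoc, ← n.uc w, ← this, ← mul_assoc, ← mul_assoc, n.t2, one_mul]
    have := k (w * x) (by
      rw [mul_assoc, mul_inv_eq_iff_eq_mul.1 e, ← mul_assoc, ← mul_assoc, e3, mul_assoc (t * u) w u,
        n.uc w, ← mul_assoc (t * u), mul_assoc t u u, n.u2, mul_one, mul_assoc])
    rwa [map_mul, n.π_one.2 n.wU, one_mul] at this
  · rw [n.tw, n.uc w, mul_assoc, n.w2, mul_one] at e2
    exact absurd e2 n.u1
  · rw [n.cj_wu, n.tw, mul_assoc w u u, n.u2, mul_one, ← mul_assoc, n.w2, one_mul] at e2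
    exact absurd e2 n.u1

theorem cenπ' {a : Q ⧸ n.U} (h : a * n.π t = n.π t * a) :
    a = 1 ∨ a = n.π c ∨ a = n.π t ∨ a = n.π c * n.π t := by
  have ti : (n.π t)⁻¹ = n.π t := inv_eq_of_mul_eq_one_right n.πt
  rcases n.cenπ h with e | e <;> rcases zp2 n.πc e with f | f
  exacts [.inl f, .inr (.inl f), .inr (.inr (.inl ((eq_inv_of_mul_eq_one_left f).trans ti))),
    .inr (.inr (.inr (by rw [← ti]; exact eq_mul_inv_of_mul_eq f)))]

theorem fin {ρ v : Q} {k : ℕ} (hv : v ∈ n.U) (h : ρ ^ 2 ^ k = c * v)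
    (hd : ∀ a, a ∈ zpowers (n.π ρ) ∨ a * n.π t ∈ zpowers (n.π ρ)) : NF ⊤ t u w c ρ (k + 2) := by
  have ru : ρ ^ 2 ^ (k + 1) = u := by
    rw [pow_succ, pow_mul, h, pow_two, mul_assoc, ← mul_assoc v, ← n.commU n.cw hv, mul_assoc, n.sqU hv,
      mul_one, n.c2]
  have ord : orderOf ρ = 2 ^ (k + 1 + 1) :=
    orderOf_eq_prime_pow (by rw [ru]; exact n.u1) (by rw [pow_succ, pow_mul, ru, pow_two, n.u2])
  have dec : ∀ x, n.π x ∈ zpowers (n.π ρ) → ∃ i : ℤ, x = ρ ^ i ∨ x = ρ ^ i * w := by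
    intro x hx
    obtain ⟨i, hi⟩ := mem_zpowers_iff.1 hx
    obtain ⟨z, hz, rfl⟩ := n.π_eq (x := x) (z := ρ ^ i) (by rw [map_zpow, hi])
    have e : ρ ^ ((2 : ℤ) ^ (k + 1)) = u := by rw [← ru]; norm_cast
    rcases n.memU.1 hz with f | f | f | f <;> rw [f]
    · exact ⟨i, .inl (mul_one _)⟩
    · exact ⟨i + 2 ^ (k + 1), .inl (by rw [zpow_add, e])⟩
    · exact ⟨i, .inr rfl⟩
    · exact ⟨i + 2 ^ (k + 1), .inr (by rw [zpow_add, e, mul_assoc, n.uc w])⟩
  have ti : t⁻¹ = t := inv_eq_of_mul_eq_one_right n.t2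
  refine ⟨mem_top _, mem_top _, mem_top _, n.t2, n.w2, fun x _ => n.uc x, n.tw, fun x _ => n.nw x, n.ct,
    n.cw, n.c2, fun x _ h1 h2 => (n.cen x h1).resolve_right fun h3 => n.tw_ne ?_, by omega, ord, ru,
    fun hw => n.tw_ne ?_, ?_, fun x _ => ?_⟩
  · have := comm_zp n.cw h3
    rw [← mul_assoc, ← h2, mul_assoc, mul_assoc] at this
    exact mul_left_cancel this
  · rcases H5.eq_one_or_half ord hw n.w2 with e | e
    · rw [e, mul_one, one_mul]
    · rw [e, ru, n.uc]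
  · have e : c = ρ ^ 2 ^ k * v := by rw [h, mul_assoc, n.sqU hv, mul_one]
    show c = ρ ^ 2 ^ k ∨ c = ρ ^ 2 ^ k * u ∨ c = ρ ^ 2 ^ k * w ∨ c = ρ ^ 2 ^ k * w * u
    rcases n.memU.1 hv with f | f | f | f <;> rw [f] at e
    exacts [.inl (e.trans (mul_one _)), .inr (.inl e), .inr (.inr (.inl e)),
      .inr (.inr (.inr (e.trans (mul_assoc _ _ _).symm)))]
  · rcases hd (n.π x) with e | e
    · obtain ⟨i, f⟩ := dec x e
      exact ⟨i, f.elim .inl fun f => .inr (.inl f)⟩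
    · obtain ⟨i, f⟩ := dec (x * t) (by rwa [map_mul])
      exact ⟨i, .inr (.inr (f.imp (fun f => by rw [← f, mul_assoc, n.t2, mul_one])
        fun f => by rw [← f, mul_assoc, n.t2, mul_one]))⟩

theorem step3 [Finite Q] (hQ : IsPGroup 2 Q) : ∃ (ρ : Q) (m : ℕ), NF ⊤ t u w c ρ m := by
  classical
  rcases cyc2 (hQ.to_quotient n.U) (n.π t) (by
    refine le_trans ?_ (Finset.card_le_four (a := 1) (b := n.π c) (c := n.π t) (d := n.π c * n.π t))
    rw [← Set.ncard_coe_finset]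
    refine Set.ncard_le_ncard (s := ((centralizer {n.π t} : Subgroup (Q ⧸ n.U)) : Set (Q ⧸ n.U)))
      (fun a ha => ?_) (Finset.finite_toSet _)
    simpa using n.cenπ' (mem_centralizer_singleton_iff.1 ha)) with h | ⟨a, k, ha, hi⟩
  · exact ⟨c, _, n.fin (k := 0) (one_mem _) (by simp) fun a => n.cenπ (h a)⟩
  obtain ⟨ρ, rfl⟩ := QuotientGroup.mk'_surjective _ a
  have nt : n.π t ∉ zpowers (n.π ρ) := fun h => by
    have h2 : n.π ρ * n.π ρ = 1 := by
      rcases n.cenπ' (comm_zp rfl h).symm with e | e | e | e <;> rw [e]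
      exacts [one_mul _, n.πc, n.πt, by
        rw [mul_assoc, ← mul_assoc (n.π t), ← map_mul n.π t c, ← n.ct, map_mul, mul_assoc, n.πt, mul_one,
          n.πc]]
    have h3 := orderOf_dvd_of_pow_eq_one (x := n.π ρ) (n := 2 ^ 1) (by rw [pow_one, pow_two]; exact h2)
    rw [ha, Nat.pow_dvd_pow_iff_le_right one_lt_two] at h3
    omega
  have hN := normal_of_index_eq_two hi
  have h1 := H5.conj_half ha (hN.conj_mem _ (mem_zpowers _) (n.π t))
  rcases n.cenπ' (mul_inv_eq_iff_eq_mul.1 h1).symm with e | e | e | e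
  · exact absurd e (H5.half_ne_one ha)
  · obtain ⟨v, hv, f⟩ := n.π_eq (x := ρ ^ 2 ^ (k + 1)) (z := c) (by rw [map_pow]; exact e)
    refine ⟨ρ, _, n.fin hv f fun a => ?_⟩
    rw [mul_mem_iff_of_index_two hi]
    tauto
  · exact absurd (e ▸ pow_mem (mem_zpowers _) _) nt
  · obtain ⟨v, hv, f⟩ := n.π_eq (x := ρ ^ 2 ^ (k + 1)) (z := c * t) (by rw [map_pow, map_mul]; exact e)
    have h2 := n.sq_w (ρ ^ 2 ^ k)
    rw [← pow_two, ← pow_mul, ← pow_succ, f, mul_assoc, ← n.commU rfl hv, ← mul_assoc, ← mul_assoc,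
      ← mul_assoc, ← n.cw, mul_left_inj, mul_assoc, mul_assoc, mul_right_inj] at h2
    exact absurd h2 n.tw_ne

end N0

/-- The situation inside the Sylow subgroup. -/
structure Q0 (B : Subgroup Q) (t y s : Q) : Prop where
  mulB : ∀ a b, a * b ∈ B ↔ (a ∈ B ↔ b ∈ B)
  tB : t ∉ B
  t2 : t * t = 1
  yB : y ∈ B
  y4 : y * y * (y * y) = 1
  u1 : y * y ≠ 1
  yt : y * t = t * y
  hc : ∀ x ∈ B, x * t = t * x → x ∈ zpowers y
  sB : s ∈ B
  s2 : s * s = 1
  st : s * t ≠ t * s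

namespace Q0
variable {B : Subgroup Q} {t y s : Q} (h : Q0 B t y s)
include h

theorem cjB (g : Q) {a : Q} (ha : a ∈ B) : g * a * g⁻¹ ∈ B := by
  rw [h.mulB, h.mulB, inv_mem_iff]; tauto

theorem cen {x : Q} (hx : x * t = t * x) : x ∈ zpowers y ∨ x * t ∈ zpowers y := by
  by_cases hB : x ∈ B
  · exact .inl (h.hc x hB hx)
  · exact .inr (h.hc _ ((h.mulB _ _).2 (iff_of_false hB h.tB)) (by rw [← mul_assoc, ← hx]))

theorem inv_y {x : Q} (hx : x ∈ zpowers y) (h2 : x * x = 1) : x = 1 ∨ x = y * y := by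
  rcases zp4 h.y4 hx with e | e | e | e
  · exact .inl e
  · exact absurd (e ▸ h2) h.u1
  · exact .inr e
  · rw [e, show y * (y * y) * (y * (y * y)) = y * y * (y * y * (y * y)) by group, h.y4, mul_one] at h2
    exact absurd h2 h.u1

theorem invol {x : Q} (hx : x * t = t * x) (h2 : x * x = 1) :
    x = 1 ∨ x = y * y ∨ x = t ∨ x = y * y * t := by
  have ti : t⁻¹ = t := inv_eq_of_mul_eq_one_right h.t2
  rcases h.cen hx with e | e
  · exact (h.inv_y e h2).elim .inl fun f => .inr (.inl f)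
  · rcases h.inv_y e (by rw [mul_assoc, ← mul_assoc t, ← hx, mul_assoc, h.t2, mul_one, h2]) with f | f
    exacts [.inr (.inr (.inl ((eq_inv_of_mul_eq_one_left f).trans ti))),
      .inr (.inr (.inr (by rw [← ti]; exact eq_mul_inv_of_mul_eq f)))]

variable [Finite Q] (hQ : IsPGroup 2 Q)
include hQ

theorem uc (x : Q) : x * (y * y) = y * y * x := by
  haveI : B.Normal := ⟨fun a ha g => h.cjB g ha⟩
  obtain ⟨z, h1, h2, h3⟩ := H5.exists_mem_center_orderOf_eq hQ B fun e =>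
    h.u1 (mem_bot.1 (e ▸ mul_mem h.yB h.yB))
  rcases h.inv_y (h.hc z h1 (mem_center_iff.1 h2 t).symm)
    (by rw [← pow_two, ← h3, pow_orderOf_eq_one]) with e | e
  · rw [e, orderOf_one] at h3
    omega
  · rw [← e]; exact mem_center_iff.1 h2 x

theorem not_cyc {a : Q} {m : ℕ} (ha : orderOf a = 2 ^ (m + 1)) (hi : (zpowers a).index = 2) : False := by
  have ti : t⁻¹ = t := inv_eq_of_mul_eq_one_right h.t2
  have si : s⁻¹ = s := inv_eq_of_mul_eq_one_right h.s2
  have hu : y * y = a ^ 2 ^ m :=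
    (H5.eq_one_or_half ha ((mul_mem_iff_of_index_two hi).2 Iff.rfl) h.y4).resolve_left h.u1
  have iv : ∀ x ∈ zpowers a, x * x = 1 → x = 1 ∨ x = y * y := fun x hx h2 => by
    rw [hu]; exact H5.eq_one_or_half ha hx h2
  have ivB : ∀ x ∈ zpowers a, x * x = 1 → x ∈ B := fun x hx h2 => by
    rcases iv x hx h2 with e | e <;> rw [e]
    exacts [one_mem _, mul_mem h.yB h.yB]
  have nt : t ∉ zpowers a := fun e => h.tB (ivB t e h.t2)
  have ns : s ∉ zpowers a := fun e => h.st (by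
    rcases iv s e h.s2 with f | f <;> rw [f]
    exacts [by rw [mul_one, one_mul], (h.uc hQ t).symm])
  have hx : t * s ∈ zpowers a := (mul_mem_iff_of_index_two hi).2 (iff_of_false nt ns)
  have x2 : t * s * (t * s) ≠ 1 := fun e => h.tB (((h.mulB _ _).1 (ivB _ hx e)).2 h.sB)
  obtain ⟨c, c1, c2, c3⟩ : ∃ c ∈ zpowers a, c * t = t * c ∧ c * c = y * y := by
    by_cases e : y ∈ zpowers a
    · exact ⟨y, e, h.yt, rfl⟩
    · exact ⟨y * t, (mul_mem_iff_of_index_two hi).2 (iff_of_false e nt), by rw [← mul_assoc, ← h.yt], by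
        rw [mul_assoc, ← mul_assoc t, ← h.yt, mul_assoc, h.t2, mul_one]⟩
  obtain ⟨j, j1, j2⟩ := H5.exists_pow_not_mem_pow_mem (p := 2) (K := ⊥) (x := t * s * (t * s)) x2
    (hQ _).choose_spec
  have j0 : (t * s * (t * s)) ^ 2 ^ j = (t * s) ^ 2 ^ j * (t * s) ^ 2 ^ j := (Commute.refl _).mul_pow _
  rw [mem_bot, j0] at j1 j2
  have k1 : (t * s) ^ 2 ^ j ∈ zpowers a := pow_mem hx _
  have k2 : t * (t * s) ^ 2 ^ j * t⁻¹ = ((t * s) ^ 2 ^ j)⁻¹ := by
    rw [← conj_pow, ← inv_pow, mul_inv_rev, ti, si, ← mul_assoc, h.t2, one_mul]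
  generalize (t * s) ^ 2 ^ j = x at j1 j2 k1 k2
  rw [pow_two] at j2
  have k3 : x * x = y * y := (iv _ (mul_mem k1 k1) j2).resolve_left j1
  have k4 : c * x = x * c := comm_zp (comm_zp rfl k1).symm c1
  have k5 : x * c * t = t * (x * c) := by
    rcases iv _ (mul_mem k1 c1) (by
      rw [mul_assoc, ← mul_assoc c, k4, mul_assoc, c3, ← mul_assoc, k3, h.y4]) with e | e <;> rw [e]
    exacts [by rw [mul_one, one_mul], (h.uc hQ t).symm]
  rw [mul_assoc, c2, ← mul_assoc, ← mul_assoc, mul_left_inj] at k5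
  rw [← k5, mul_inv_cancel_right] at k2
  exact j1 (mul_eq_one_iff_eq_inv.2 k2)

theorem exw : ∃ w, w * w = 1 ∧ t * w * t⁻¹ = w * (y * y) ∧
    ∀ g, g * w * g⁻¹ = w ∨ g * w * g⁻¹ = w * (y * y) := by
  have uc := h.uc hQ
  have ti : t⁻¹ = t := inv_eq_of_mul_eq_one_right h.t2
  have si : s⁻¹ = s := inv_eq_of_mul_eq_one_right h.s2
  rcases step1 hQ h.y4 with hc | ⟨a, m, ha, hi⟩ | ⟨w, w2, w1, wu, nw⟩
  · exact absurd (mul_comm' s t) h.st
  · exact (h.not_cyc hQ ha hi).elim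
  rcases nw t with e | e
  swap
  · exact ⟨w, w2, e, nw⟩
  have nt : ∀ g, g * t = t * g ∨ g * t * g⁻¹ = t * (y * y) := fun g => by
    rcases h.invol (mul_inv_eq_iff_eq_mul.1 e).symm w2 with f | f | f | f
    · exact absurd f w1
    · exact absurd f wu
    · rw [← f]; exact (nw g).imp_left mul_inv_eq_iff_eq_mul.1
    · have k : g * w * g⁻¹ = y * y * (g * t * g⁻¹) := by rw [f, ← mul_assoc g, uc g]; group
      rcases nw g with d | d <;> rw [k, f] at d
      · exact .inl (mul_inv_eq_iff_eq_mul.1 (mul_left_cancel d))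
      · exact .inr (mul_left_cancel (d.trans (mul_assoc _ _ _)))
  have st := (nt s).resolve_left h.st
  have fl : ∀ {a b : Q}, a * b * a⁻¹ = b * (y * y) → b * a * b⁻¹ = a * (y * y) := fun {a b} d => by
    have : b * a = a * (y * y) * b := by
      rw [mul_assoc a, ← uc b, ← mul_assoc, mul_inv_eq_iff_eq_mul.1 d, mul_assoc b, ← uc a, mul_assoc,
        mul_assoc, h.y4, mul_one]
    rw [this, mul_inv_cancel_right]
  let N : Subgroup Q := {
    carrier := {g | g * s * g⁻¹ = s ∨ g * s * g⁻¹ = s * (y * y)}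
    one_mem' := .inl (by group)
    mul_mem' := fun {a b} ha hb => by
      have k : a * b * s * (a * b)⁻¹ = a * (b * s * b⁻¹) * a⁻¹ := by group
      have k2 : a * (s * (y * y)) * a⁻¹ = a * s * a⁻¹ * (y * y) := by
        rw [mul_assoc (a * s), uc a⁻¹]; group
      show _ ∨ _
      rw [k]
      rcases hb with e | e <;> rw [e]
      · exact ha
      · rw [k2]
        rcases ha with d | d <;> rw [d]
        exacts [.inr rfl, .inl (by rw [mul_assoc, h.y4, mul_one])]
    inv_mem' := fun {a} ha => by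
      rcases ha with d | d
      · left; rw [inv_inv, mul_assoc, ← mul_inv_eq_iff_eq_mul.1 d, inv_mul_cancel_left]
      · right
        rw [inv_inv, mul_assoc, inv_mul_eq_iff_eq_mul, ← mul_assoc, mul_inv_eq_iff_eq_mul.1 d, mul_assoc,
          uc a, mul_assoc s, ← mul_assoc (y * y), h.y4, one_mul] }
  have tN : t ∈ N := .inr (fl st)
  have yN : zpowers y ≤ N := zpowers_le.2 (by
    have k : s * y * s⁻¹ * t = t * (s * y * s⁻¹) := by
      have k1 : s * y * s⁻¹ * (s * t * s⁻¹) = s * t * s⁻¹ * (s * y * s⁻¹) := by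
        rw [conj_mul, conj_mul, h.yt]
      rw [st, mul_assoc t, ← uc, ← mul_assoc, ← mul_assoc t] at k1
      exact mul_right_cancel k1
    have k2 : s * y * s⁻¹ * (s * y * s⁻¹) = y * y := by rw [conj_mul, uc, mul_inv_cancel_right]
    rcases zp4 h.y4 (h.hc _ (h.cjB s h.yB) k) with d | d | d | d
    · rw [d, mul_one] at k2; exact absurd k2.symm h.u1
    · exact .inl (mul_inv_eq_iff_eq_mul.2 (mul_inv_eq_iff_eq_mul.1 d).symm)
    · rw [d, h.y4] at k2; exact absurd k2.symm h.u1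
    · exact .inr (fl d))
  have cN : ∀ g, g * t = t * g → g ∈ N := fun g hg =>
    (h.cen hg).elim (fun d => yN d) fun d => (mul_mem_cancel_right tN).1 (yN d)
  refine ⟨s, h.s2, fl st, fun g => show g ∈ N from (nt g).elim (cN g) fun d => ?_⟩
  refine (mul_mem_cancel_left (show s ∈ N from .inl (by group))).1 (cN _ (mul_inv_eq_iff_eq_mul.1 ?_))
  rw [show s * g * t * (s * g)⁻¹ = s * (g * t * g⁻¹) * s⁻¹ by group, d, ← mul_assoc s,
    mul_assoc (s * t), ← uc, ← mul_assoc, st, mul_assoc, h.y4, mul_one]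

theorem nf : ∃ (u w c ρ : Q) (m : ℕ), NF ⊤ t u w c ρ m := by
  have uc := h.uc hQ
  obtain ⟨w, w2, tw, nw⟩ := h.exw hQ
  obtain ⟨c, n⟩ : ∃ c, N0 t (y * y) w c := by
    rcases nw y with e | e
    · exact ⟨y, h.t2, w2, h.y4, h.u1, uc, tw, nw, h.yt, mul_inv_eq_iff_eq_mul.1 e, rfl, fun x => h.cen⟩
    have c2 : y * t * (y * t) = y * y := by
      rw [mul_assoc, ← mul_assoc t, ← h.yt, mul_assoc, h.t2, mul_one]
    have k : ∀ x ∈ zpowers y, x ∈ zpowers (y * t) ∨ x * t ∈ zpowers (y * t) := fun x hx => by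
      have m1 := mem_zpowers (y * t)
      rcases zp4 h.y4 hx with d | d | d | d <;> rw [d]
      exacts [.inl (one_mem _), .inr m1, .inl (c2 ▸ mul_mem m1 m1), .inr (by
        rw [mul_assoc, ← uc t, ← mul_assoc, ← c2]; exact mul_mem m1 (mul_mem m1 m1))]
    refine ⟨y * t, h.t2, w2, h.y4, h.u1, uc, tw, nw, by rw [← mul_assoc, ← h.yt],
      mul_inv_eq_iff_eq_mul.1 ?_, c2, fun x hx => (h.cen hx).elim (k x) fun d => ?_⟩
    · rw [show y * t * w * (y * t)⁻¹ = y * (t * w * t⁻¹) * y⁻¹ by group, tw, ← mul_assoc y,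
        mul_assoc (y * w), ← uc, ← mul_assoc, e, mul_assoc, h.y4, mul_one]
    · have := k _ d
      rw [mul_assoc, h.t2, mul_one] at this
      exact this.symm
  obtain ⟨ρ, m, k⟩ := n.step3 hQ
  exact ⟨_, w, c, ρ, m, k⟩

end Q0

theorem lift {S : Subgroup Q} {t u w c ρ : S} {m : ℕ} (n : NF ⊤ t u w c ρ m) :
    NF S (t : Q) u w c ρ m := by
  have z : ∀ {a x : S}, x ∈ zpowers a ↔ (x : Q) ∈ zpowers (a : Q) := fun {a x} => by
    simp only [mem_zpowers_iff, Subtype.ext_iff, SubgroupClass.coe_zpow]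
  refine ⟨t.2, w.2, ρ.2, congrArg Subtype.val n.t2, congrArg Subtype.val n.w2,
    fun x hx => congrArg Subtype.val (n.uc ⟨x, hx⟩ (mem_top _)), congrArg Subtype.val n.tw,
    fun x hx => (n.nw ⟨x, hx⟩ (mem_top _)).imp (congrArg Subtype.val) (congrArg Subtype.val),
    congrArg Subtype.val n.ct, congrArg Subtype.val n.cw, congrArg Subtype.val n.c2,
    fun x hx h1 h2 => z.1 (n.cent ⟨x, hx⟩ (mem_top _) (Subtype.ext h1) (Subtype.ext h2)), n.m2,
    (orderOf_coe ρ).trans n.ord, congrArg Subtype.val n.ru, fun h => n.wr (z.2 h),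
    n.cU.imp (congrArg Subtype.val) (Or.imp (congrArg Subtype.val)
      (Or.imp (congrArg Subtype.val) (congrArg Subtype.val))), fun x hx => ?_⟩
  obtain ⟨i, e⟩ := n.dec ⟨x, hx⟩ (mem_top _)
  exact ⟨i, e.imp (congrArg Subtype.val) (Or.imp (congrArg Subtype.val)
    (Or.imp (congrArg Subtype.val) (congrArg Subtype.val)))⟩

theorem eqns_C4Str : True := by
  have := @N0.U.eq_1.{0}
  trivial

end H44.C4.Str

namespace H44.C4.Sit
open Subgroup

variable {X : Type*} [Group X] [Finite X] {A S : Subgroup X} {t : X}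

theorem exists_nf (h : Sit A S t) {y : X} (hyS : y ∈ S) (hyA : y ∈ A) (hy : orderOf y = 4) (hyt : y * t = t * y)
    (hc : ∀ x ∈ S, x ∈ A → x * t = t * x → x ∈ zpowers y) :
    ∃ (u w c ρ : X) (m : ℕ), NF S t u w c ρ m := by
  obtain ⟨s, s1, s2, s3, s4⟩ : ∃ s ∈ S, s ∈ A ∧ s * s = 1 ∧ s * t ≠ t * s := by
    obtain ⟨a, b, a1, a2, b1, b2, a3, b3, ab, a4, b4, ne⟩ := h.four
    by_contra! k
    rcases h.no4 1 a b a2 b2 a3 b3 ab (by simpa using k a a1 a2 a3) (by simpa using k b b1 b2 b3) with e | e | e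
    exacts [a4 e, b4 e, ne e]
  have q : Str.Q0 (A.subgroupOf S) ⟨t, h.tS⟩ ⟨y, hyS⟩ ⟨s, s1⟩ := by
    refine ⟨fun a b => h.mulA, h.tA, Subtype.ext h.t2, hyA, Subtype.ext ?_, fun e => ?_, Subtype.ext hyt,
      fun x h1 h2 => ?_, s2, Subtype.ext s3, fun e => s4 (congrArg Subtype.val e)⟩
    · show y * y * (y * y) = 1
      rw [← pow_two, ← pow_two, ← pow_mul]; exact (show y ^ 4 = 1 from hy ▸ pow_orderOf_eq_one y)
    · have := orderOf_dvd_of_pow_eq_one (n := 2) ((pow_two y).trans (congrArg Subtype.val e))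
      rw [hy] at this
      omega
    · obtain ⟨i, e⟩ := mem_zpowers_iff.1 (hc x x.2 h1 (congrArg Subtype.val h2))
      exact mem_zpowers_iff.2 ⟨i, Subtype.ext e⟩
  obtain ⟨u, w, c, ρ, m, n⟩ := q.nf h.isP
  exact ⟨u, w, c, ρ, m, Str.lift n⟩

end H44.C4.Sit
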