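import Cfsg.Agent.Lib.C4.Basic
import Cfsg.Agent.Lib.Inv73.Transfer
import Cfsg.Agent.Lib.Core.PCore
import Cfsg.Agent.S0949

/-! S1914 (project C4), package T: transfer, extremal conjugation, Brauer's theorem. -/

set_option autoImplicit false

namespace H44.C4
open Subgroup

theorem conj_into {Y : Type*} [Group Y] [Finite Y] {S T C : Subgroup Y} (hS : IsPGroup 2 S) (hSC : S ≤ C)
    (hodd : Odd (S.relIndex C)) (hT : IsPGroup 2 T) (hTC : T ≤ C) : ∃ k ∈ C, ∀ x ∈ T, k * x * k⁻¹ ∈ S := by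
  have : Fact (Nat.Prime 2) := ⟨Nat.prime_two⟩
  let P : Sylow 2 C := (hS.of_equiv (subgroupOfEquivOfLe hSC).symm).toSylow
    (fun h => (Nat.not_even_iff_odd.2 hodd) (even_iff_two_dvd.2 h))
  obtain ⟨Q, hQ⟩ := (hT.of_equiv (subgroupOfEquivOfLe hTC).symm).exists_le_sylow
  obtain ⟨g, hg⟩ := MulAction.exists_smul_eq C Q P
  refine ⟨g, g.2, fun x hx => ?_⟩
  have h1 : g * ⟨x, hTC hx⟩ * g⁻¹ ∈ ((g • Q : Sylow 2 C) : Subgroup C) :=
    smul_mem_pointwise_smul (⟨x, hTC hx⟩ : C) (MulAut.conj g) _ (hQ hx)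
  rw [hg] at h1
  exact h1

theorem odd_relIndex {Y : Type*} [Group Y] {S C D : Subgroup Y} (h1 : S ≤ C) (h2 : C ≤ D)
    (hodd : Odd (S.relIndex D)) : Odd (S.relIndex C) := by
  rw [← relIndex_mul_relIndex S C D h1 h2] at hodd
  exact Nat.Odd.of_mul_left hodd

theorem relIndex_two {Y : Type*} [Group Y] {M P : Subgroup Y} {x0 b : Y}
    (hM : ∀ a ∈ P, a ∈ M ∨ a * x0⁻¹ ∈ M) (hb : b ∈ P) (hbM : b ∉ M) : M.relIndex P = 2 := by
  refine index_eq_two_iff.2 ⟨⟨b, hb⟩⁻¹, fun a => ?_⟩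
  simp only [mem_subgroupOf, coe_mul, coe_inv]
  by_cases ha : (a : Y) ∈ M
  · exact .inr ⟨ha, fun e => hbM (by simpa using (mul_mem_cancel_left ha).1 e)⟩
  · refine .inl ⟨?_, ha⟩
    have := mul_mem ((hM a a.2).resolve_left ha) (inv_mem ((hM b hb).resolve_left hbM))
    convert this using 1; group

theorem zz4 {Y : Type*} [Group Y] {a b : Y} (hab : a * b = b * a) (ha : a * a * (a * a) = 1)
    (hb : b * b * (b * b) = 1) (ha1 : a * a ≠ 1) (hb1 : b * b ≠ 1) (hne : a * a ≠ b * b) {P : Subgroup Y}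
    (haP : a ∈ P) (hbP : b ∈ P) (hP : ∀ s ∈ P, ∃ i j : ℤ, s = a ^ i * b ^ j) :
    Nonempty (P ≃* Multiplicative (ZMod (2 ^ 2) × ZMod (2 ^ 2))) := by
  have hc : Commute a b := hab
  have p4 : ∀ z : Y, z * z * (z * z) = 1 → z ^ 2 ^ 2 = 1 := fun z hz => by
    rw [show 2 ^ 2 = 2 * 2 from rfl, pow_mul, pow_two, pow_two, hz]
  have add : ∀ z : Y, z ^ 2 ^ 2 = 1 → ∀ i j : ZMod (2 ^ 2), z ^ (i + j).val = z ^ i.val * z ^ j.val :=
    fun z hz i j => by rw [ZMod.val_add, ← pow_eq_pow_mod _ hz, pow_add]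
  let φ : Multiplicative (ZMod (2 ^ 2) × ZMod (2 ^ 2)) →* Y :=
    { toFun := fun x => a ^ x.toAdd.1.val * b ^ x.toAdd.2.val
      map_one' := by simp
      map_mul' := fun x y => by
        simp only [toAdd_mul, Prod.fst_add, Prod.snd_add]
        rw [add a (p4 a ha), add b (p4 b hb), mul_assoc, mul_assoc, ← mul_assoc (a ^ y.toAdd.1.val),
          (hc.pow_pow _ _).eq, mul_assoc] }
  have key : ∀ i j : ℕ, (a * a) ^ i * (b * b) ^ j = 1 → Even i ∧ Even j := by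
    intro i j h
    have e : ∀ z : Y, z * z = 1 → ∀ k : ℕ, z ^ (2 * k) = 1 := fun z hz k => by rw [pow_mul, pow_two, hz, one_pow]
    rcases Nat.even_or_odd' i with ⟨i, rfl | rfl⟩ <;> rcases Nat.even_or_odd' j with ⟨j, rfl | rfl⟩
    · exact ⟨even_two_mul _, even_two_mul _⟩
    · rw [pow_succ, e _ ha, e _ hb, one_mul, one_mul] at h; exact absurd h hb1
    · rw [pow_succ, e _ ha, e _ hb, one_mul, mul_one] at h; exact absurd h ha1
    · rw [pow_succ, pow_succ, e _ ha, e _ hb, one_mul, one_mul, ← hb] at h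
      exact absurd (mul_right_cancel h) hne
  have hinj : Function.Injective φ := by
    rw [injective_iff_map_eq_one]
    intro x hx
    change a ^ x.toAdd.1.val * b ^ x.toAdd.2.val = 1 at hx
    have h1 := ZMod.val_lt x.toAdd.1
    have h2 := ZMod.val_lt x.toAdd.2
    obtain ⟨⟨i, hi⟩, ⟨j, hj⟩⟩ := key x.toAdd.1.val x.toAdd.2.val (by
      rw [(Commute.refl a).mul_pow, (Commute.refl b).mul_pow, mul_assoc, ← mul_assoc (a ^ _) (b ^ _), hx, one_mul, hx])
    rw [hi, hj, pow_add, pow_add, ← (Commute.refl a).mul_pow, ← (Commute.refl b).mul_pow] at hx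
    obtain ⟨⟨i', hi'⟩, ⟨j', hj'⟩⟩ := key _ _ hx
    have h3 : x.toAdd.1 = 0 := (ZMod.val_eq_zero _).1 (by omega)
    have h4 : x.toAdd.2 = 0 := (ZMod.val_eq_zero _).1 (by omega)
    exact toAdd_eq_zero.1 (Prod.ext h3 h4)
  have hr : φ.range = P := by
    refine le_antisymm ?_ fun s hs => ?_
    · rintro _ ⟨x, rfl⟩
      exact mul_mem (pow_mem haP _) (pow_mem hbP _)
    · obtain ⟨i, j, rfl⟩ := hP s hs
      have e : ∀ z : Y, z ^ 2 ^ 2 = 1 → ∀ k : ℤ, z ^ (k : ZMod (2 ^ 2)).val = z ^ k := fun z hz k => by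
        rw [← zpow_natCast, ZMod.val_intCast, ← zpow_eq_zpow_emod' k hz]
      exact ⟨Multiplicative.ofAdd ((i : ZMod (2 ^ 2)), (j : ZMod (2 ^ 2))), by
        change a ^ (i : ZMod (2 ^ 2)).val * b ^ (j : ZMod (2 ^ 2)).val = _
        rw [e a (p4 a ha), e b (p4 b hb)]⟩
  exact ⟨(MulEquiv.subgroupCongr hr.symm).trans (MonoidHom.ofInjective hinj).symm⟩

namespace Sit

variable {X : Type*} [Group X] [Finite X] {A S : Subgroup X} {t : X}

omit [Finite X] in
theorem oddA (h : Sit A S t) : Odd (S.relIndex A) := by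
  have := normal_of_index_eq_two h.idx
  have h1 := relIndex_mul_index (inf_le_right : S ⊓ A ≤ A)
  have h2 := relIndex_mul_index (inf_le_left : S ⊓ A ≤ S)
  rw [inf_relIndex_right, h.idx] at h1
  rw [inf_relIndex_left, ← h1] at h2
  have h3 := relIndex_dvd_index_of_normal A S
  rw [h.idx] at h3
  obtain ⟨k, hk⟩ := h.odd
  rcases (Nat.dvd_prime Nat.prime_two).1 h3 with e | e <;> rw [e] at h2
  · omega
  · exact ⟨k, by omega⟩

omit [Finite X] in
theorem perfTop (h : Sit A S t) : commutator A = ⊤ := by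
  apply map_injective A.subtype_injective
  rw [commutator_def, map_commutator, ← MonoidHom.range_eq_map, range_subtype, h.perf]

omit [Finite X] in
theorem hom_triv (h : Sit A S t) {M : Type*} [CommGroup M] (f : A →* M) (a : A) : f a = 1 :=
  Abelianization.commutator_subset_ker f (h.perfTop ▸ mem_top a)

/-- Transfer in `A` (Thompson's lemma for a 2-element `x`); `P = S ⊓ A ⊆ M ∪ M x0`. -/
theorem trA (h : Sit A S t) {M : Subgroup X} {x0 x : X}
    (hM : ∀ a ∈ S, a ∈ A → a ∈ M ∨ a * x0⁻¹ ∈ M) (hxS : x ∈ S) (hxA : x ∈ A)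
    (h2 : ∀ g ∈ A, ∀ i : ℕ, g * x ^ 2 ^ (i + 1) * g⁻¹ ∈ S → g * x ^ 2 ^ (i + 1) * g⁻¹ ∈ M) :
    ∃ g ∈ A, g * x * g⁻¹ ∈ S ∧ g * x * g⁻¹ ∈ M := by
  have : Fact (Nat.Prime 2) := ⟨Nat.prime_two⟩
  by_contra hn
  push Not at hn
  have hxM : x ∉ M := by simpa using hn 1 (one_mem _) (by simpa using hxS)
  have hi : ((M ⊓ S).subgroupOf A).relIndex (S.subgroupOf A) = 2 :=
    relIndex_two (x0 := ⟨x, hxA⟩) (b := ⟨x, hxA⟩) (fun a ha => by
      by_cases haM : (a : X) ∈ M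
      · exact .inl ⟨haM, ha⟩
      · refine .inr ⟨?_, S.mul_mem ha (S.inv_mem hxS)⟩
        have := mul_mem ((hM a ha a.2).resolve_left haM) (inv_mem ((hM x hxS hxA).resolve_left hxM))
        change (a : X) * x⁻¹ ∈ M
        convert this using 1; group) hxS fun e => hxM e.1
  obtain ⟨n, hn'⟩ := (IsPGroup.iff_orderOf.1 h.isP) ⟨x, hxS⟩
  obtain ⟨N, -, hN, hx⟩ := H73.exists_index_two_of_transfer (S.subgroupOf A) ((M ⊓ S).subgroupOf A) h.oddA hi
    ⟨x, hxA⟩ (n := n) (by rw [← orderOf_coe] at hn' ⊢; exact hn') (fun g e => hn g g.2 e.2 e.1)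
    (fun g i hi _ e _ => by
      obtain ⟨j, rfl⟩ : ∃ j, i = j + 1 := ⟨i - 1, by omega⟩
      exact ⟨h2 g g.2 j e, e⟩)
  exact hx ((H73.signHom_eq_one_iff hN).1 (h.hom_triv _ _))

/-- Transfer in `X`; `S ⊆ M ∪ M t`. -/
theorem trX (h : Sit A S t) {M : Subgroup X} {w : X} (hM : ∀ a ∈ S, a ∈ M ∨ a * t⁻¹ ∈ M)
    (hw : w * w = 1) (hwA : w ∉ A) (h1 : ∀ g : X, g * t * g⁻¹ ∈ S → g * t * g⁻¹ ∉ M)
    (h2 : ∀ g : X, g * w * g⁻¹ ∈ S → g * w * g⁻¹ ∈ M) : False := by
  have : Fact (Nat.Prime 2) := ⟨Nat.prime_two⟩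
  have hi : (M.subgroupOf S).index = 2 :=
    relIndex_two hM h.tS (by simpa using h1 1 (by simpa using h.tS))
  have ha : (A.subgroupOf S).index = 2 :=
    relIndex_two (x0 := t) (fun a _ => by
      by_cases e : a ∈ A
      · exact .inl e
      · exact .inr (h.mulA.2 (iff_of_false e fun f => h.tA (inv_mem_iff.1 f)))) h.tS h.tA
  have inv : ∀ (φ : S →* ℤˣ) (z : X), z * z = 1 → z ∉ A → (∀ (g : X) (e : g⁻¹ * z * g ∈ S), φ ⟨_, e⟩ = -1) →
      ∀ z' ∉ A, MonoidHom.transfer φ z' = -1 := by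
    intro φ z hz hzA hφ z' hz'
    have ho : orderOf z = 2 := orderOf_eq_prime (by rw [pow_two, hz]) fun e => hzA (e ▸ one_mem _)
    have k1 := H73.transfer_eq_neg_one S h.odd φ z fun g k hk _ hd _ => by
      rw [ho] at hd
      rcases (Nat.dvd_prime Nat.prime_two).1 hd with rfl | rfl
      · simp only [pow_one] at hk ⊢; exact hφ g hk
      · have : (⟨_, hk⟩ : S) = 1 := Subtype.ext (by change g⁻¹ * z ^ 2 * g = 1; rw [pow_two, hz]; group)
        rw [this, map_one]; rfl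
    have k2 : MonoidHom.transfer φ (z' * z) = 1 :=
      h.hom_triv ((MonoidHom.transfer φ).comp A.subtype) ⟨_, h.mulA.2 (iff_of_false hz' hzA)⟩
    rw [map_mul, k1] at k2
    rcases Int.units_eq_one_or (MonoidHom.transfer φ z') with e | e
    · rw [e] at k2; exact absurd k2 (by decide)
    · exact e
  have cj : ∀ g z : X, g⁻¹ * z * g = g⁻¹ * z * g⁻¹⁻¹ := fun g z => by rw [inv_inv]
  have e1 := inv (H73.signHom _ hi) t h.t2 h.tA (fun g e => H73.signHom_of_notMem hi (by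
    rw [mem_subgroupOf]; change g⁻¹ * t * g ∉ M; rw [cj] at e ⊢; exact h1 _ e)) t h.tA
  have e2 := inv (H73.signHom _ ha) t h.t2 h.tA (fun g e => H73.signHom_of_notMem ha (by
    rw [mem_subgroupOf]; change g⁻¹ * t * g ∉ A; rw [cj, h.cjA]; exact h.tA)) t h.tA
  have e3 := inv (H73.signHom _ hi * H73.signHom _ ha) w hw hwA (fun g e => by
    rw [MonoidHom.mul_apply, H73.signHom_of_mem hi (by
      rw [mem_subgroupOf]; change g⁻¹ * w * g ∈ M; rw [cj] at e ⊢; exact h2 _ e),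
      H73.signHom_of_notMem ha (by rw [mem_subgroupOf]; change g⁻¹ * w * g ∉ A; rw [cj, h.cjA]; exact hwA),
      one_mul]) t h.tA
  have e4 : MonoidHom.transfer (H73.signHom _ hi * H73.signHom _ ha) t =
      MonoidHom.transfer (H73.signHom _ hi) t * MonoidHom.transfer (H73.signHom _ ha) t := by
    classical
    have := S.fintypeQuotientOfFiniteIndex
    have : Fintype (Quotient (MulAction.orbitRel (zpowers t) (X ⧸ S))) := Fintype.ofFinite _
    simp only [MonoidHom.transfer_eq_prod_quotient_orbitRel_zpowers_quot, MonoidHom.mul_apply,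
      Finset.prod_mul_distrib]
  rw [e1, e2, e3] at e4
  exact absurd e4 (by decide)

/-- Extremal conjugation in `X`. -/
theorem extX (h : Sit A S t) {z x g : X} (hz : ∀ s ∈ S, s * z = z * s) (hg : g * x * g⁻¹ = z) :
    ∃ k : X, k * x * k⁻¹ = z ∧ ∀ c ∈ S, c * x = x * c → k * c * k⁻¹ ∈ S := by
  have h1 : S ≤ centralizer {z} := fun s hs => mem_centralizer_singleton_iff.2 (hz s hs)
  obtain ⟨k, hk, h2⟩ := conj_into (T := (S ⊓ centralizer {x}).map (MulAut.conj g).toMonoidHom) h.isP h1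
    (odd_relIndex h1 le_top (by rw [relIndex_top_right]; exact h.odd)) ((h.isP.to_le inf_le_left).map _) (by
      rintro _ ⟨c, hc, rfl⟩
      refine mem_centralizer_singleton_iff.2 ?_
      change g * c * g⁻¹ * z = z * (g * c * g⁻¹)
      rw [← hg, conj_mul, conj_mul, mem_centralizer_singleton_iff.1 hc.2])
  refine ⟨k * g, ?_, fun c hc e => ?_⟩
  · rw [show k * g * x * (k * g)⁻¹ = k * (g * x * g⁻¹) * k⁻¹ by group, hg, mem_centralizer_singleton_iff.1 hk]
    group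
  · have : k * (g * c * g⁻¹) * k⁻¹ ∈ S := h2 _ ⟨c, ⟨hc, mem_centralizer_singleton_iff.2 e⟩, rfl⟩
    convert this using 1
    group

/-- Extremal conjugation in `A`. -/
theorem extA (h : Sit A S t) {z x g : X} (hz : ∀ s ∈ S, s ∈ A → s * z = z * s) (hgA : g ∈ A)
    (hg : g * x * g⁻¹ = z) :
    ∃ k ∈ A, k * x * k⁻¹ = z ∧ ∀ c ∈ S, c ∈ A → c * x = x * c → k * c * k⁻¹ ∈ S := by
  have h1 : S ⊓ A ≤ centralizer {z} ⊓ A := fun s hs => ⟨mem_centralizer_singleton_iff.2 (hz s hs.1 hs.2), hs.2⟩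
  obtain ⟨k, hk, h2⟩ := conj_into (T := (S ⊓ A ⊓ centralizer {x}).map (MulAut.conj g).toMonoidHom)
    (h.isP.to_le inf_le_left) h1
    (odd_relIndex h1 inf_le_right (by rw [inf_relIndex_right]; exact h.oddA))
    ((h.isP.to_le (inf_le_left.trans inf_le_left)).map _) (by
      rintro _ ⟨c, hc, rfl⟩
      refine ⟨mem_centralizer_singleton_iff.2 ?_, (h.cjA g).2 hc.1.2⟩
      change g * c * g⁻¹ * z = z * (g * c * g⁻¹)
      rw [← hg, conj_mul, conj_mul, mem_centralizer_singleton_iff.1 hc.2])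
  refine ⟨k * g, mul_mem hk.2 hgA, ?_, fun c hc hcA e => ?_⟩
  · rw [show k * g * x * (k * g)⁻¹ = k * (g * x * g⁻¹) * k⁻¹ by group, hg, mem_centralizer_singleton_iff.1 hk.1]
    group
  · have : k * (g * c * g⁻¹) * k⁻¹ ∈ S := (h2 _ ⟨c, ⟨⟨hc, hcA⟩, mem_centralizer_singleton_iff.2 e⟩, rfl⟩).1
    convert this using 1
    group

/-- A subgroup containing a conjugate of `S ⊓ A` has odd index in `A`. -/
theorem oddI (h : Sit A S t) {K : Subgroup X} {g n : X} (hK : ∀ s ∈ S, s ∈ A → g * s * g⁻¹ ∈ K)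
    (hn : n ∈ A) (hnK : ∀ k ∈ K, n * k * n⁻¹ ∈ K) (hn2 : n * n ∈ K) : n ∈ K := by
  by_contra hc
  let L : Subgroup X := ext2 (K ⊓ A) n (fun k hk => ⟨hnK k hk.1, (h.cjA n).2 hk.2⟩) ⟨hn2, h.sqA n⟩
  have h1 : (K ⊓ A).relIndex L = 2 :=
    relIndex_two (x0 := n) (b := n) (fun a ha => ha) (.inr (by rw [mul_inv_cancel]; exact one_mem _)) fun e => hc e.1
  have h2 : L ≤ A := by
    rintro a (ha | ha)
    exacts [ha.2, (mul_mem_cancel_right (inv_mem hn)).1 ha.2]
  have h3 : (S ⊓ A).map (MulAut.conj g).toMonoidHom ≤ K ⊓ A := by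
    rintro _ ⟨s, hs, rfl⟩
    exact ⟨hK s hs.1 hs.2, (h.cjA g).2 hs.2⟩
  have h4 := index_dvd_of_le h3
  have h5 : K ⊓ A ≤ L := fun a ha => .inl ha
  rw [index_map_of_bijective (MulAut.conj g).bijective, ← relIndex_mul_index (inf_le_right : S ⊓ A ≤ A),
    inf_relIndex_right, ← relIndex_mul_index h5, ← relIndex_mul_index h2, h1, h.idx] at h4
  obtain ⟨k, hk⟩ := h.oddA
  obtain ⟨l, hl⟩ := h4
  rw [hk, show 2 * (L.relIndex A * 2) * l = 4 * (L.relIndex A * l) by ring] at hl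
  omega

/-- `S ⊓ A` is not `Z4 × Z4`. -/
theorem brauer (h : Sit A S t) {a b : X} (haS : a ∈ S) (haA : a ∈ A) (hbS : b ∈ S) (hbA : b ∈ A)
    (hab : a * b = b * a) (ha : a * a * (a * a) = 1) (hb : b * b * (b * b) = 1) (ha1 : a * a ≠ 1)
    (hb1 : b * b ≠ 1) (hne : a * a ≠ b * b) (hP : ∀ s ∈ S, s ∈ A → ∃ i j : ℤ, s = a ^ i * b ^ j) : False := by
  have : Fact (Nat.Prime 2) := ⟨Nat.prime_two⟩
  let f := QuotientGroup.mk' (Cfsg.pPrimeCore 2 A)
  have hf : Function.Surjective f := QuotientGroup.mk'_surjective _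
  let P : Sylow 2 A := (h.isP.comap_subtype (K := A)).toSylow
    (fun e => (Nat.not_even_iff_odd.2 h.oddA) (even_iff_two_dvd.2 e))
  have inj : ∀ z : A, z * z = 1 → f z = 1 → z = 1 := fun z hz e => by
    have h1 := H1.coprime_orderOf_of_mem_pPrimeCore ((QuotientGroup.eq_one_iff z).1 e)
    rw [← pow_two] at hz
    exact orderOf_eq_one_iff.1 (h1.eq_one_of_dvd (orderOf_dvd_of_pow_eq_one hz))
  let Q : Subgroup (A ⧸ Cfsg.pPrimeCore 2 A) := (P.mapSurjective hf : Sylow 2 (A ⧸ Cfsg.pPrimeCore 2 A))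
  set a' : A := ⟨a, haA⟩
  set b' : A := ⟨b, hbA⟩
  have ha' : a' * a' * (a' * a') = 1 := Subtype.ext ha
  have hb' : b' * b' * (b' * b') = 1 := Subtype.ext hb
  have hab' : a' * b' = b' * a' := Subtype.ext hab
  have k1 : f a' * f a' ≠ 1 := fun e => ha1 (congrArg Subtype.val (inj _ ha' (by rw [map_mul, e])))
  obtain ⟨e⟩ := zz4 (a := f a') (b := f b') (P := Q)
    (by rw [← map_mul, hab', map_mul]) (by simp only [← map_mul, ha', map_one])
    (by simp only [← map_mul, hb', map_one]) k1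
    (fun e => hb1 (congrArg Subtype.val (inj _ hb' (by rw [map_mul, e]))))
    (fun e => by
      have hc : Commute (a' * a') (b' * b') :=
        Commute.mul_left (Commute.mul_right hab' hab') (Commute.mul_right hab' hab')
      have h1 := inj (a' * a' * (b' * b')) (by
        rw [← pow_two, hc.mul_pow, pow_two, pow_two, ha', hb', mul_one]) (by
        rw [map_mul, map_mul, e, ← map_mul, ← map_mul, hb', map_one])
      rw [← hb'] at h1
      exact hne (congrArg Subtype.val (mul_right_cancel h1)))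
    ⟨a', haS, rfl⟩ ⟨b', hbS, rfl⟩ (by
      rintro _ ⟨s, hs, rfl⟩
      obtain ⟨i, j, hij⟩ := hP s hs s.2
      exact ⟨i, j, by rw [← map_zpow, ← map_zpow, ← map_mul]; exact congrArg f (Subtype.ext hij)⟩)
  obtain ⟨hN, hC, hI⟩ := Cfsg.Agent.S0949.result (P.mapSurjective hf) 2 le_rfl e fun N _ hN =>
    eq_bot_iff.2 (H1.pPrimeCore_quotient_pPrimeCore (p := 2) (G := A) ▸
      H1.le_pPrimeCore (Nat.coprime_two_right.2 hN))
  have htop : ∀ y, y ∈ Q := by
    rcases hI with hI | hI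
    · exact fun y => (index_eq_one.1 hI).ge (mem_top y)
    · intro y
      obtain ⟨z, rfl⟩ := hf y
      have : Fact (Nat.Prime 3) := ⟨Nat.prime_three⟩
      have hN' : Q.Normal := hN
      have : IsCyclic ((A ⧸ Cfsg.pPrimeCore 2 A) ⧸ Q) := isCyclic_of_prime_card (p := 3) hI
      letI := IsCyclic.commGroup (α := (A ⧸ Cfsg.pPrimeCore 2 A) ⧸ Q)
      exact (QuotientGroup.eq_one_iff _).1 (h.hom_triv ((QuotientGroup.mk' Q).comp f) z)
  letI : CommGroup (A ⧸ Cfsg.pPrimeCore 2 A) :=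
    { (inferInstance : Group (A ⧸ Cfsg.pPrimeCore 2 A)) with
      mul_comm := fun x y => (hC.ge (htop y)) x (htop x) }
  exact k1 (by rw [← map_mul]; exact h.hom_triv f _)

end Sit

end H44.C4
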